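/-
Functoriality of `HilbD.pull`, and the closed locus where one finite locally free family is
contained in a closed subscheme.
-/
import Groth.Agent.H27HilbOne.Basic
import Groth.Agent.H19Grp.PiClosedGlobal

set_option autoImplicit false
set_option backward.isDefEq.respectTransparency false
set_option backward.isDefEq.respectTransparency.types false

universe u

open CategoryTheory CategoryTheory.Limits AlgebraicGeometry

namespace Groth.Agent.H27HilbOps

open H19Grp (Contains HasUniv HasUnivLocally)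

variable {X S : Scheme.{u}} (f : X ⟶ S)

lemma isPullback_XTmap {T T' : Over S} (g : T' ⟶ T) :
    IsPullback (PicF.XTmap f g) (pullback.snd f T'.hom) (pullback.snd f T.hom) g.left := by
  have h1 : IsPullback (PicF.XTmap f g ≫ pullback.fst f T.hom) (pullback.snd f T'.hom) f
      (g.left ≫ T.hom) := by
    rw [Over.w g, show PicF.XTmap f g ≫ pullback.fst f T.hom = pullback.fst f T'.hom by
      simp [PicF.XTmap]]
    exact IsPullback.of_hasPullback f T'.hom
  exact IsPullback.of_right h1 (by simp [PicF.XTmap]) (IsPullback.of_hasPullback f T.hom)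

lemma XTmap_comp {T T' T'' : Over S} (h : T'' ⟶ T') (g : T' ⟶ T) :
    PicF.XTmap f (h ≫ g) = PicF.XTmap f h ≫ PicF.XTmap f g := by
  apply pullback.hom_ext <;> simp [PicF.XTmap]

lemma XTmap_id (T : Over S) : PicF.XTmap f (𝟙 T) = 𝟙 _ := by
  apply pullback.hom_ext <;> simp [PicF.XTmap]

lemma pull_comp {T T' T'' : Over S} (h : T'' ⟶ T') (g : T' ⟶ T)
    (I : (PicF.XT f T).IdealSheafData) :
    HilbD.pull f (h ≫ g) I = HilbD.pull f h (HilbD.pull f g I) := by
  rw [H27HilbOne.pull_eq_comap, H27HilbOne.pull_eq_comap, H27HilbOne.pull_eq_comap, XTmap_comp,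
    Scheme.IdealSheafData.comap_comp]

lemma pull_id {T : Over S} (I : (PicF.XT f T).IdealSheafData) : HilbD.pull f (𝟙 T) I = I := by
  rw [H27HilbOne.pull_eq_comap, XTmap_id, Scheme.IdealSheafData.comap_id]

lemma pull_mono {T T' : Over S} (g : T' ⟶ T) {I J : (PicF.XT f T).IdealSheafData} (h : I ≤ J) :
    HilbD.pull f g I ≤ HilbD.pull f g J := by
  rw [H27HilbOne.pull_eq_comap, H27HilbOne.pull_eq_comap]
  exact Scheme.IdealSheafData.comap_mono _ h

lemma exists_isPullback_pull {T T' : Over S} (g : T' ⟶ T) (I : (PicF.XT f T).IdealSheafData) :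
    ∃ a, IsPullback a (HilbD.pull f g I).subschemeι I.subschemeι (PicF.XTmap f g) := by
  rw [H27HilbOne.pull_eq_comap]
  refine ⟨(I.comapIso _).hom ≫ pullback.snd _ _, ?_⟩
  exact (IsPullback.of_hasPullback (PicF.XTmap f g) I.subschemeι).flip.of_iso
    (I.comapIso (PicF.XTmap f g)).symm (Iso.refl _) (Iso.refl _) (Iso.refl _)
    (by simp only [Iso.refl_hom, Category.comp_id, Iso.symm_hom, Iso.inv_hom_id_assoc])
    (by simp) (by simp) (by simp)

/-- The structure morphism of a pulled back family is a base change. -/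
lemma exists_isPullback_pull_proj {T T' : Over S} (g : T' ⟶ T)
    (I : (PicF.XT f T).IdealSheafData) :
    ∃ a, IsPullback a ((HilbD.pull f g I).subschemeι ≫ PicF.XTproj f T')
      (I.subschemeι ≫ PicF.XTproj f T) g.left :=
  let ⟨a, ha⟩ := exists_isPullback_pull f g I
  ⟨a, ha.paste_vert (isPullback_XTmap f g)⟩

lemma isFinLocFree_pull {T T' : Over S} (g : T' ⟶ T) (I : (PicF.XT f T).IdealSheafData)
    (h : Mor2.IsFinLocFree (I.subschemeι ≫ PicF.XTproj f T)) :
    Mor2.IsFinLocFree ((HilbD.pull f g I).subschemeι ≫ PicF.XTproj f T') := by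
  obtain ⟨a, ha⟩ := exists_isPullback_pull_proj f g I
  obtain ⟨h1, h2, h3⟩ := h
  exact ⟨MorphismProperty.of_isPullback ha h1, MorphismProperty.of_isPullback ha h2,
    MorphismProperty.of_isPullback ha h3⟩

lemma isFinLocFreeOfDeg_pull {d : ℕ} {T T' : Over S} (g : T' ⟶ T)
    (I : (PicF.XT f T).IdealSheafData)
    (h : Mor2.IsFinLocFreeOfDeg d (I.subschemeι ≫ PicF.XTproj f T)) :
    Mor2.IsFinLocFreeOfDeg d ((HilbD.pull f g I).subschemeι ≫ PicF.XTproj f T') := by
  refine ⟨isFinLocFree_pull f g I h.1, fun y => ?_⟩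
  obtain ⟨a, ha⟩ := exists_isPullback_pull_proj f g I
  haveI := h.1.1; haveI := h.1.2.1
  rw [Scheme.Hom.finrank_of_isPullback _ _ _ _ ha, h.2]

/-- Base change of a member of `Hilb^d`. -/
noncomputable def pullObj {d : ℕ} {T T' : Over S} (g : T' ⟶ T) (Z : HilbD.Obj f d T) :
    HilbD.Obj f d T' :=
  ⟨HilbD.pull f g Z.1, isFinLocFreeOfDeg_pull f g Z.1 Z.2⟩

/-- Universal ideals exist for closed subschemes of finite locally free schemes. -/
theorem hasUnivLocally_of_finLocFree {S Z Y : Scheme.{u}} (p : Z ⟶ S) (hp : Mor2.IsFinLocFree p)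
    (j : Y ⟶ Z) [IsClosedImmersion j] : HasUnivLocally p j := by
  intro s
  obtain ⟨U, hU, hs, -⟩ :=
    exists_isAffineOpen_mem_and_subset (x := s) (U := (⊤ : S.Opens)) trivial
  haveI : IsAffine ↑U := hU
  obtain ⟨h1, h2, h3⟩ := hp
  haveI := h1; haveI := h2; haveI := h3
  haveI : IsAffine (pullback p U.ι) := isAffine_of_isAffineHom (pullback.snd p U.ι)
  obtain ⟨𝔞, h𝔞, -⟩ := H19Grp.hasUniv_of_opens (f := p) (j := j) U.ι fun z => by
    refine ⟨⊤, trivial, isAffineOpen_top _, ?_⟩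
    let q := (⊤ : (pullback p U.ι).Opens).ι ≫ pullback.snd p U.ι
    haveI : IsAffine (⊤ : (pullback p U.ι).Opens).toScheme := isAffineOpen_top _
    haveI : IsIso (⊤ : (pullback p U.ι).Opens).ι :=
      inferInstanceAs (IsIso (Scheme.topIso (pullback p U.ι)).hom)
    letI alg := q.appTop.hom.toAlgebra
    haveI : IsFinite q := inferInstanceAs (IsFinite (_ ≫ _))
    haveI : Flat q := inferInstanceAs (Flat (_ ≫ _))
    haveI : LocallyOfFinitePresentation q := inferInstanceAs (LocallyOfFinitePresentation (_ ≫ _))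
    haveI : Module.Finite Γ(↑U, ⊤) Γ(↑(⊤ : (pullback p U.ι).Opens), ⊤) := q.finite_appTop
    haveI : Module.Flat Γ(↑U, ⊤) Γ(↑(⊤ : (pullback p U.ι).Opens), ⊤) :=
      HasRingHomProperty.appTop (P := @Flat) q inferInstance
    haveI : Algebra.FinitePresentation Γ(↑U, ⊤) Γ(↑(⊤ : (pullback p U.ι).Opens), ⊤) :=
      HasRingHomProperty.appTop (P := @LocallyOfFinitePresentation) q inferInstance
    haveI := Module.FinitePresentation.of_finite_of_finitePresentation Γ(↑U, ⊤)
      Γ(↑(⊤ : (pullback p U.ι).Opens), ⊤)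
    exact Module.Flat.projective_of_finitePresentation
  refine ⟨_, U.toScheme.isoSpec.inv ≫ U.ι, 𝔞, inferInstance,
    ⟨U.toScheme.isoSpec.hom ⟨s, hs⟩, ?_⟩, h𝔞⟩
  rw [← Scheme.Hom.comp_apply, Iso.hom_inv_id_assoc]
  rfl

lemma exists_lift_subschemeι_iff {W Y : Scheme.{u}} (J : Y.IdealSheafData) (b : W ⟶ Y) :
    (∃ l, l ≫ J.subschemeι = b) ↔ J ≤ b.ker := by
  constructor
  · rintro ⟨l, rfl⟩
    exact le_of_eq_of_le J.ker_subschemeι.symm (Scheme.Hom.le_ker_comp _ _)
  · intro h
    exact ⟨IsClosedImmersion.lift J.subschemeι b (J.ker_subschemeι.trans_le h),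
      IsClosedImmersion.lift_fac _ _ _⟩

lemma contains_iff {T T' : Over S} (g : T' ⟶ T) (I J : (PicF.XT f T).IdealSheafData) :
    Contains (I.subschemeι ≫ PicF.XTproj f T) (pullback.fst I.subschemeι J.subschemeι) g.left ↔
      HilbD.pull f g J ≤ HilbD.pull f g I := by
  obtain ⟨a, ha⟩ := exists_isPullback_pull f g I
  have hA := ha.paste_vert (isPullback_XTmap f g)
  rw [H27HilbOne.pull_eq_comap f g J, ← Scheme.IdealSheafData.le_map_iff_comap_le,
    Scheme.IdealSheafData.map, ← exists_lift_subschemeι_iff, ← ha.w]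
  constructor
  · rintro ⟨l, hl⟩
    refine ⟨hA.isoPullback.hom ≫ l ≫ pullback.snd _ _, ?_⟩
    simp only [Category.assoc]
    rw [← pullback.condition, reassoc_of% hl, ← Category.assoc, hA.isoPullback_hom_fst]
  · rintro ⟨l, hl⟩
    refine ⟨hA.isoPullback.inv ≫ pullback.lift a l hl.symm, ?_⟩
    rw [Category.assoc, pullback.lift_fst, hA.isoPullback_inv_fst]

/-- The closed locus where the family `I` is contained in the closed subscheme `J`. -/
theorem exists_containLocus {T : Over S} (I J : (PicF.XT f T).IdealSheafData)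
    (hI : Mor2.IsFinLocFree (I.subschemeι ≫ PicF.XTproj f T)) :
    ∃ (E : Scheme.{u}) (ι : E ⟶ T.left), IsClosedImmersion ι ∧
      ∀ {T' : Over S} (g : T' ⟶ T),
        (∃ h, h ≫ ι = g.left) ↔ HilbD.pull f g J ≤ HilbD.pull f g I := by
  have hloc := hasUnivLocally_of_finLocFree _ hI (pullback.fst I.subschemeι J.subschemeι)
  refine ⟨_, (H19Grp.univIdeal hloc).subschemeι, inferInstance, fun g => ?_⟩
  rw [H19Grp.contains_iff_factors hloc, contains_iff]

/-- The closed locus where two finite locally free families agree. -/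
theorem exists_eqLocus {T : Over S} (I J : (PicF.XT f T).IdealSheafData)
    (hI : Mor2.IsFinLocFree (I.subschemeι ≫ PicF.XTproj f T))
    (hJ : Mor2.IsFinLocFree (J.subschemeι ≫ PicF.XTproj f T)) :
    ∃ (E : Scheme.{u}) (ι : E ⟶ T.left), IsClosedImmersion ι ∧
      ∀ {T' : Over S} (g : T' ⟶ T),
        (∃ h, h ≫ ι = g.left) ↔ HilbD.pull f g I = HilbD.pull f g J := by
  obtain ⟨E₁, ι₁, h₁, hu₁⟩ := exists_containLocus f I J hI
  obtain ⟨E₂, ι₂, h₂, hu₂⟩ := exists_containLocus f J I hJ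
  haveI := h₁; haveI := h₂
  refine ⟨pullback ι₁ ι₂, pullback.fst ι₁ ι₂ ≫ ι₁, inferInstance, fun g => ?_⟩
  rw [le_antisymm_iff, ← hu₁, ← hu₂]
  constructor
  · rintro ⟨h, hh⟩
    exact ⟨⟨h ≫ pullback.snd _ _, by rw [← hh, Category.assoc, pullback.condition]⟩,
      ⟨h ≫ pullback.fst _ _, by rw [← hh, Category.assoc]⟩⟩
  · rintro ⟨⟨b, hb⟩, ⟨a, ha⟩⟩
    exact ⟨pullback.lift a b (ha.trans hb.symm), by rw [pullback.lift_fst_assoc, ha]⟩

end Groth.Agent.H27HilbOps
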