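/-
`Hilb^d_{X/S}` as a presheaf; it is a Zariski sheaf.
-/
import Groth.Agent.H27HilbOps.Basic
import Groth.Agent.H13Desc.Eff.Closed
import Groth.Agent.H8Props.WeilRes.Cover

set_option autoImplicit false
set_option backward.isDefEq.respectTransparency false
set_option backward.isDefEq.respectTransparency.types false

universe u

open CategoryTheory CategoryTheory.Limits AlgebraicGeometry Opposite

namespace Groth.Agent.H27HilbOps

variable {X S : Scheme.{u}} (f : X ⟶ S) (d : ℕ)

/-- The presheaf `Hilb^d_{X/S}`. -/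
noncomputable def hilbF : (Over S)ᵒᵖ ⥤ Type u where
  obj T := HilbD.Obj f d T.unop
  map g := ↾(pullObj f g.unop)
  map_id T := by
    refine ConcreteCategory.hom_ext _ _ fun Z => ?_
    exact Subtype.ext (pull_id f Z.1)
  map_comp g h := by
    refine ConcreteCategory.hom_ext _ _ fun Z => ?_
    exact Subtype.ext (pull_comp f h.unop g.unop Z.1)

@[simp] lemma hilbF_map {T T' : Over S} (g : T' ⟶ T) (Z : HilbD.Obj f d T) :
    (hilbF f d).map g.op Z = pullObj f g Z := rfl

/-- Being finite locally free of degree `d` is local on the target. -/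
lemma isFinLocFreeOfDeg_of_cover {P T : Scheme.{u}} (p : P ⟶ T) {κ : Type u} {C : κ → Scheme.{u}}
    (π : ∀ k, C k ⟶ T) [∀ k, IsOpenImmersion (π k)] (hc : ∀ x, ∃ k, x ∈ Set.range (π k))
    {Q : κ → Scheme.{u}} {a : ∀ k, Q k ⟶ P} {q : ∀ k, Q k ⟶ C k}
    (hpb : ∀ k, IsPullback (a k) (q k) p (π k)) (h : ∀ k, Mor2.IsFinLocFreeOfDeg d (q k)) :
    Mor2.IsFinLocFreeOfDeg d p := by
  let 𝒰 : T.OpenCover :=
    { I₀ := κ
      X := C
      f := π
      mem₀ := by
        rw [Scheme.presieve₀_mem_precoverage_iff]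
        exact ⟨hc, inferInstance⟩ }
  have key : ∀ (P' : MorphismProperty Scheme.{u}) [IsZariskiLocalAtTarget P'],
      (∀ k, P' (q k)) → P' p := by
    intro P' _ hq
    refine (IsZariskiLocalAtTarget.iff_of_openCover (P := P') 𝒰).mpr fun k => ?_
    show P' (pullback.snd p (π k))
    rw [← P'.cancel_left_of_respectsIso (hpb k).isoPullback.hom, IsPullback.isoPullback_hom_snd]
    exact hq k
  have h1 : IsFinite p := key @IsFinite fun k => (h k).1.1
  have h2 : Flat p := key @Flat fun k => (h k).1.2.1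
  refine ⟨⟨h1, h2, key @LocallyOfFinitePresentation fun k => (h k).1.2.2⟩, fun y => ?_⟩
  obtain ⟨k, y', rfl⟩ := hc y
  rw [← Scheme.Hom.finrank_of_isPullback _ _ _ _ (hpb k), (h k).2]

/-- `Hilb^d` is a Zariski sheaf. -/
theorem isZariskiGluing_hilbF : H8Props.WeilRes.IsZariskiGluing (hilbF f d) := by
  intro T κ C π ho hc s hs
  let q : ∀ k, PicF.XT f (C k) ⟶ PicF.XT f T := fun k => PicF.XTmap f (π k)
  have hq : ∀ k, IsOpenImmersion (q k) := fun k =>
    MorphismProperty.of_isPullback (P := @IsOpenImmersion) (isPullback_XTmap f (π k)).flip (ho k)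
  have hqc : ∀ z : PicF.XT f T, ∃ k, z ∈ Set.range (q k) := by
    intro z
    obtain ⟨k, w, hw⟩ := hc (pullback.snd f T.hom z)
    have h := isPullback_XTmap f (π k)
    obtain ⟨v, hv, -⟩ := Scheme.Pullback.exists_preimage_pullback
      (f := pullback.snd f T.hom) (g := (π k).left) z w hw.symm
    refine ⟨k, h.isoPullback.inv v, ?_⟩
    rw [← Scheme.Hom.comp_apply, h.isoPullback_inv_fst, hv]
  let 𝒰 : (PicF.XT f T).OpenCover :=
    { I₀ := κ
      X := fun k => PicF.XT f (C k)
      f := q
      mem₀ := by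
        rw [Scheme.presieve₀_mem_precoverage_iff]
        exact ⟨hqc, hq⟩ }
  have hcomp : ∀ i j, (s i).1.comap (pullback.fst (q i) (q j)) =
      (s j).1.comap (pullback.snd (q i) (q j)) := by
    intro i j
    let W : Over S := Over.mk (pullback.fst (π i).left (π j).left ≫ (C i).hom)
    let a : W ⟶ C i := Over.homMk (pullback.fst _ _) rfl
    let b : W ⟶ C j := Over.homMk (pullback.snd _ _) (by
      show pullback.snd _ _ ≫ (C j).hom = pullback.fst _ _ ≫ (C i).hom
      rw [← Over.w (π j), ← Over.w (π i), pullback.condition_assoc])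
    have hab : a ≫ π i = b ≫ π j := Over.OverMorphism.ext pullback.condition
    have hs' : HilbD.pull f a (s i).1 = HilbD.pull f b (s j).1 :=
      congrArg Subtype.val (hs i j W a b hab)
    have htop : IsPullback (PicF.XTmap f b) (PicF.XTmap f a) (q j) (q i) := by
      have hA := (isPullback_XTmap f b).paste_vert
        (IsPullback.of_hasPullback (π i).left (π j).left).flip
      refine IsPullback.of_bot ?_ ?_ (isPullback_XTmap f (π i))
      · convert hA using 1 <;> first
          | rfl
          | exact (isPullback_XTmap f a).w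
          | exact (isPullback_XTmap f (π j)).w
      · rw [← XTmap_comp, ← XTmap_comp, hab]
    rw [← htop.flip.isoPullback_inv_fst, ← htop.flip.isoPullback_inv_snd,
      Scheme.IdealSheafData.comap_comp, Scheme.IdealSheafData.comap_comp,
      ← H27HilbOne.pull_eq_comap, ← H27HilbOne.pull_eq_comap, hs']
  obtain ⟨I, hI, hI'⟩ := H13Desc.Eff.existsUnique_ideal
    (Scheme.zariskiPrecoverage_le_fpqcPrecoverage _ 𝒰.mem₀) (fun k => (s k).1) hcomp
  have hpull : ∀ k, HilbD.pull f (π k) I = (s k).1 := fun k => by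
    rw [H27HilbOne.pull_eq_comap]; exact hI k
  have hpb : ∀ k, ∃ a, IsPullback a ((s k).1.subschemeι ≫ PicF.XTproj f (C k))
      (I.subschemeι ≫ PicF.XTproj f T) (π k).left := fun k => by
    rw [← hpull k]; exact exists_isPullback_pull_proj f (π k) I
  choose a ha using hpb
  haveI := ho
  refine ⟨⟨I, isFinLocFreeOfDeg_of_cover d _ (fun k => (π k).left) hc ha fun k => (s k).2⟩,
    fun k => Subtype.ext (hpull k), fun J hJ => Subtype.ext (hI' J.1 fun k => ?_)⟩
  rw [← H27HilbOne.pull_eq_comap]
  exact congrArg Subtype.val (hJ k)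

/-- A representation of the presheaf gives a universal pair. -/
theorem representable_of_isRepresentable (h : (hilbF f d).IsRepresentable) :
    HilbD.Representable f d := by
  obtain ⟨H, ⟨E⟩⟩ := h
  refine ⟨H, E.homEquiv (𝟙 H), fun T Z => ?_⟩
  have he : ∀ g : T ⟶ H, E.homEquiv g = pullObj f g (E.homEquiv (𝟙 H)) := fun g =>
    (congrArg E.homEquiv (Category.comp_id g).symm).trans (E.homEquiv_comp g (𝟙 H))
  obtain ⟨g, hg⟩ := E.homEquiv.surjective Z
  refine ⟨g, ?_, fun g' hg' => E.homEquiv.injective ?_⟩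
  · exact congrArg Subtype.val ((he g).symm.trans hg)
  · rw [hg, he g']
    exact Subtype.ext hg'

end Groth.Agent.H27HilbOps
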