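/-
Open subfunctors of `Hilb^d_{X/S}`: families contained in an open subscheme over an open of the base.
-/
import Groth.Agent.H27HilbOps.Functor
import Groth.Agent.H27HilbAff.Affine
import Groth.Agent.H13AlgSp.FibreCard

set_option autoImplicit false
set_option backward.isDefEq.respectTransparency false
set_option backward.isDefEq.respectTransparency.types false

universe u

open CategoryTheory CategoryTheory.Limits AlgebraicGeometry

namespace Groth.Agent.H27HilbOps

variable {X S U V : Scheme.{u}} (f : X ⟶ S) (g : U ⟶ V) (j : U ⟶ X) (v : V ⟶ S)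
  (hw : j ≫ f = g ≫ v) [IsOpenImmersion j] [IsOpenImmersion v]

/-- A `V`-scheme as an `S`-scheme. -/
noncomputable abbrev overS (T : Over V) : Over S := Over.mk (T.hom ≫ v)

/-- A morphism of `V`-schemes as a morphism of `S`-schemes. -/
noncomputable abbrev overSMap {T T' : Over V} (h : T' ⟶ T) : overS v T' ⟶ overS v T :=
  Over.homMk h.left (by
    show h.left ≫ T.hom ≫ v = T'.hom ≫ v
    rw [Over.w_assoc])

/-- `U ×_V T ⟶ X ×_S T`. -/
noncomputable def XOincl (T : Over V) : PicF.XT g T ⟶ PicF.XT f (overS v T) :=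
  pullback.map g T.hom f (overS v T).hom j (𝟙 _) v hw.symm (by simp)

@[simp, reassoc]
lemma XOincl_fst (T : Over V) :
    XOincl f g j v hw T ≫ pullback.fst f (overS v T).hom = pullback.fst g T.hom ≫ j := by
  simp [XOincl]

@[simp, reassoc]
lemma XOincl_snd (T : Over V) :
    XOincl f g j v hw T ≫ pullback.snd f (overS v T).hom = pullback.snd g T.hom :=
  (pullback.lift_snd _ _ _).trans (Category.comp_id _)

instance XOincl_isOpenImmersion (T : Over V) : IsOpenImmersion (XOincl f g j v hw T) := by
  unfold XOincl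
  infer_instance

lemma range_XOincl (T : Over V) :
    Set.range (XOincl f g j v hw T) = pullback.fst f (overS v T).hom ⁻¹' Set.range j := by
  rw [XOincl, Scheme.Pullback.range_map]
  exact Set.inter_eq_left.mpr fun z _ => ⟨_, rfl⟩

lemma isPullback_XOincl {T T' : Over V} (h : T' ⟶ T) :
    IsPullback (PicF.XTmap g h) (XOincl f g j v hw T') (XOincl f g j v hw T)
      (PicF.XTmap f (overSMap v h)) := by
  refine IsPullback.of_bot ?_ ?_ (isPullback_XTmap f (overSMap v h))
  · rw [XOincl_snd, XOincl_snd]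
    exact isPullback_XTmap g h
  · apply pullback.hom_ext <;> simp [PicF.XTmap, XOincl]

/-- Push a family in `U ×_V T` forward to `X ×_S T`. -/
noncomputable def pushO (T : Over V) (I : (PicF.XT g T).IdealSheafData) :
    (PicF.XT f (overS v T)).IdealSheafData :=
  (I.subschemeι ≫ XOincl f g j v hw T).ker

lemma isFinLocFreeOfDeg_comp_iso {A B C : Scheme.{u}} {d : ℕ} (e : A ⟶ B) [IsIso e] (p : B ⟶ C)
    (h : Mor2.IsFinLocFreeOfDeg d p) : Mor2.IsFinLocFreeOfDeg d (e ≫ p) := by
  obtain ⟨⟨h1, h2, h3⟩, hr⟩ := h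
  haveI := h1; haveI := h2; haveI := h3
  exact ⟨⟨inferInstance, inferInstance, inferInstance⟩, fun y => by
    rw [Scheme.Hom.finrank_comp_left_of_isIso, hr]⟩

variable [IsSeparated f]

lemma isClosedImmersion_push {d : ℕ} {T : Over V} (Z : HilbD.Obj g d T) :
    IsClosedImmersion (Z.1.subschemeι ≫ XOincl f g j v hw T) := by
  haveI : IsFinite ((Z.1.subschemeι ≫ XOincl f g j v hw T) ≫ pullback.snd f (overS v T).hom) := by
    rw [Category.assoc, XOincl_snd]
    exact Z.2.1.1
  rw [IsClosedImmersion.iff_isFinite_and_mono]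
  exact ⟨IsFinite.of_comp _ (pullback.snd f (overS v T).hom), inferInstance⟩

/-- Push forward on `Hilb^d`. -/
noncomputable def pushOObj {d : ℕ} {T : Over V} (Z : HilbD.Obj g d T) :
    HilbD.Obj f d (overS v T) :=
  ⟨pushO f g j v hw T Z.1, by
    haveI := isClosedImmersion_push f g j v hw Z
    let k := Z.1.subschemeι ≫ XOincl f g j v hw T
    have h : k.imageι ≫ pullback.snd f (overS v T).hom =
        inv k.toImage ≫ Z.1.subschemeι ≫ pullback.snd g T.hom := by
      rw [← XOincl_snd f g j v hw T, IsIso.eq_inv_comp, Scheme.Hom.toImage_imageι_assoc,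
        Category.assoc]
    show Mor2.IsFinLocFreeOfDeg d (k.imageι ≫ pullback.snd f (overS v T).hom)
    rw [h]
    exact isFinLocFreeOfDeg_comp_iso _ _ Z.2⟩

lemma comap_pushO {d : ℕ} {T : Over V} (Z : HilbD.Obj g d T) :
    (pushO f g j v hw T Z.1).comap (XOincl f g j v hw T) = Z.1 := by
  haveI := isClosedImmersion_push f g j v hw Z
  let m := XOincl f g j v hw T
  let φ : Z.1.subscheme ⟶ pullback m (Z.1.subschemeι ≫ m) :=
    pullback.lift Z.1.subschemeι (𝟙 _) (by simp)
  haveI : IsIso φ := by
    refine ⟨pullback.snd _ _, pullback.lift_snd _ _ _, ?_⟩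
    apply pullback.hom_ext
    · rw [← cancel_mono m]
      simp [φ, pullback.condition]
    · simp [φ]
  rw [pushO, ← Scheme.IdealSheafData.ker_fst_of_isClosedImmersion,
    ← Scheme.Hom.ker_comp_of_isIso φ, pullback.lift_fst, Scheme.IdealSheafData.ker_subschemeι]

lemma pull_pushO {d : ℕ} {T T' : Over V} (h : T' ⟶ T) (Z : HilbD.Obj g d T) :
    HilbD.pull f (overSMap v h) (pushO f g j v hw T Z.1) =
      pushO f g j v hw T' (HilbD.pull g h Z.1) := by
  haveI := isClosedImmersion_push f g j v hw Z
  obtain ⟨a, ha⟩ := exists_isPullback_pull g h Z.1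
  have h2 := ha.paste_vert (isPullback_XOincl f g j v hw h)
  rw [H27HilbOne.pull_eq_comap, pushO, ← Scheme.IdealSheafData.ker_fst_of_isClosedImmersion,
    ← Scheme.Hom.ker_comp_of_isIso h2.flip.isoPullback.hom, h2.flip.isoPullback_hom_fst]
  rfl

omit [IsSeparated f] in
/-- A family contained in `U ×_V T` is a push forward. -/
lemma exists_eq_pushO {d : ℕ} {T : Over V} (W : HilbD.Obj f d (overS v T))
    (hr : Set.range W.1.subschemeι ⊆ Set.range (XOincl f g j v hw T)) :
    ∃ Z : HilbD.Obj g d T, pushO f g j v hw T Z.1 = W.1 := by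
  let m := XOincl f g j v hw T
  let I := W.1.comap m
  let l := IsOpenImmersion.lift m W.1.subschemeι hr
  haveI : IsIso (pullback.snd m W.1.subschemeι) := by
    refine ⟨pullback.lift l (𝟙 _) (by simp [l]), ?_, pullback.lift_snd _ _ _⟩
    apply pullback.hom_ext
    · rw [← cancel_mono m, Category.assoc, Category.assoc, pullback.lift_fst_assoc,
        IsOpenImmersion.lift_fac, Category.id_comp, pullback.condition]
    · simp
  let e := (W.1.comapIso m).hom ≫ pullback.snd m W.1.subschemeι
  have he : I.subschemeι ≫ m = e ≫ W.1.subschemeι := by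
    simp only [e, Category.assoc, ← pullback.condition, I]
    rw [Scheme.IdealSheafData.comapIso_hom_fst_assoc]
  have hp : I.subschemeι ≫ pullback.snd g T.hom =
      e ≫ W.1.subschemeι ≫ pullback.snd f (overS v T).hom := by
    rw [← reassoc_of% he, XOincl_snd]
  refine ⟨⟨I, ?_⟩, ?_⟩
  · show Mor2.IsFinLocFreeOfDeg d (I.subschemeι ≫ pullback.snd g T.hom)
    rw [hp]
    exact isFinLocFreeOfDeg_comp_iso _ _ W.2
  · show (I.subschemeι ≫ m).ker = _
    rw [he, Scheme.Hom.ker_comp_of_isIso, Scheme.IdealSheafData.ker_subschemeι]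

omit [IsSeparated f] in
/-- A finite locally free morphism of degree `d` has at most `d` points in a fibre. -/
lemma encard_fibre_le {Z T : Scheme.{u}} {d : ℕ} (p : Z ⟶ T) (hp : Mor2.IsFinLocFreeOfDeg d p)
    (x : T) : (p ⁻¹' {x}).encard ≤ d := by
  haveI := hp.1.1; haveI := hp.1.2.1
  let i := T.fromSpecResidueField x
  have h1 := H13AlgSp.encard_le_finrank (K := ↑(T.residueField x)) (pullback.snd p i)
    (IsLocalRing.closedPoint _)
  rw [Scheme.Hom.finrank_pullback_snd, hp.2] at h1
  have h2 : p ⁻¹' {x} = Set.range (pullback.fst p i) := by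
    rw [Scheme.Pullback.range_fst, Scheme.range_fromSpecResidueField]
  rw [h2, ← Set.image_univ]
  exact (Set.encard_image_le _ _).trans (by rw [Set.encard_univ]; exact h1)

end Groth.Agent.H27HilbOps
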