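/-
Representability of `Hilb^d_{X/S}` from an open cover by representable open subfunctors.
-/
import Groth.Agent.H27HilbOps.OpenPush
import Groth.Agent.H8Props.WeilRes.Cover

set_option autoImplicit false
set_option backward.isDefEq.respectTransparency false
set_option backward.isDefEq.respectTransparency.types false

universe u

open CategoryTheory CategoryTheory.Limits AlgebraicGeometry Opposite

namespace Groth.Agent.H27HilbOps

variable {X S : Scheme.{u}} (f : X ⟶ S) {d : ℕ}

lemma fst_pull_ι {T T' : Over S} (p : T' ⟶ T) (I : (PicF.XT f T).IdealSheafData)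
    {a : (HilbD.pull f p I).subscheme ⟶ I.subscheme}
    (ha : IsPullback a (HilbD.pull f p I).subschemeι I.subschemeι (PicF.XTmap f p))
    (z : (HilbD.pull f p I).subscheme) :
    pullback.fst f T'.hom ((HilbD.pull f p I).subschemeι z) =
      pullback.fst f T.hom (I.subschemeι (a z)) := by
  have e : (HilbD.pull f p I).subschemeι ≫ pullback.fst f T'.hom =
      a ≫ I.subschemeι ≫ pullback.fst f T.hom := by
    rw [reassoc_of% ha.w]
    simp [PicF.XTmap]
  exact congr($e z)

variable [IsSeparated f] {ι : Type u} {U V : ι → Scheme.{u}} (g : ∀ i, U i ⟶ V i) (j : ∀ i, U i ⟶ X)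
  (v : ∀ i, V i ⟶ S) (hw : ∀ i, j i ≫ f = g i ≫ v i) [∀ i, IsOpenImmersion (j i)]
  [∀ i, IsOpenImmersion (v i)] (H : ∀ i, Over (V i)) (Z : ∀ i, HilbD.Obj (g i) d (H i))
  (hu : ∀ i, HilbD.IsUniversal (g i) d (H i) (Z i))

include hw hu

/-- The family on a chart pushed to `X` determines the classifying morphism. -/
lemma open_hom_ext (i : ι) {T : Over S} (h h' : T ⟶ overS (v i) (H i))
    (e : pullObj f h (pushOObj f (g i) (j i) (v i) (hw i) (Z i)) =
      pullObj f h' (pushOObj f (g i) (j i) (v i) (hw i) (Z i))) : h = h' := by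
  have hh' : h'.left ≫ (H i).hom = h.left ≫ (H i).hom := by
    rw [← cancel_mono (v i), Category.assoc, Category.assoc]
    exact (Over.w h').trans (Over.w h).symm
  let TV : Over (V i) := Over.mk (h.left ≫ (H i).hom)
  let k : TV ⟶ H i := Over.homMk h.left rfl
  let k' : TV ⟶ H i := Over.homMk h'.left hh'
  let c : overS (v i) TV ⟶ T := Over.homMk (𝟙 _) (by
    show 𝟙 _ ≫ T.hom = (h.left ≫ (H i).hom) ≫ v i
    rw [Category.id_comp, Category.assoc]
    exact (Over.w h).symm)
  have hk : c ≫ h = overSMap (v i) k := Over.OverMorphism.ext (Category.id_comp _)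
  have hk' : c ≫ h' = overSMap (v i) k' := Over.OverMorphism.ext (Category.id_comp _)
  have e' := congrArg (HilbD.pull f c) (congrArg (Subtype.val : HilbD.Obj f d T → _) e)
  have e1 : HilbD.pull f (c ≫ h) (pushO f (g i) (j i) (v i) (hw i) (H i) (Z i).1) =
      HilbD.pull f (c ≫ h') (pushO f (g i) (j i) (v i) (hw i) (H i) (Z i).1) := by
    rw [pull_comp, pull_comp]; exact e'
  rw [hk, hk', pull_pushO, pull_pushO] at e1
  have e2 := congrArg (fun I => I.comap (XOincl f (g i) (j i) (v i) (hw i) TV)) e1
  have e3 : HilbD.pull (g i) k (Z i).1 = HilbD.pull (g i) k' (Z i).1 :=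
    (comap_pushO f (g i) (j i) (v i) (hw i) (pullObj (g i) k (Z i))).symm.trans
      (e2.trans (comap_pushO f (g i) (j i) (v i) (hw i) (pullObj (g i) k' (Z i))))
  have hkk : k = k' := (hu i TV (pullObj (g i) k' (Z i))).unique e3 rfl
  exact Over.OverMorphism.ext congr($(hkk).left)

omit hw hu in
/-- The open locus of a family lying over `V i` and inside `U i`. -/
def openLocus (i : ι) {T : Over S} (W : HilbD.Obj f d T) : T.left.Opens where
  carrier := T.hom ⁻¹' Set.range (v i) ∩ ((W.1.subschemeι ≫ PicF.XTproj f T) ''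
    ((W.1.subschemeι ≫ pullback.fst f T.hom) ⁻¹' (Set.range (j i))ᶜ))ᶜ
  is_open' := by
    haveI := W.2.1.1
    refine IsOpen.inter ((v i).isOpenEmbedding.isOpen_range.preimage T.hom.continuous) ?_
    refine ((W.1.subschemeι ≫ PicF.XTproj f T).isClosedMap _ ?_).isOpen_compl
    exact (j i).isOpenEmbedding.isOpen_range.isClosed_compl.preimage
      (W.1.subschemeι ≫ pullback.fst f T.hom).continuous

/-- A morphism factors through a chart exactly when it lands in its locus. -/
theorem open_factors_iff (i : ι) {T T' : Over S} (W : HilbD.Obj f d T) (p : T' ⟶ T) :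
    (∃ h : T' ⟶ overS (v i) (H i),
        pullObj f h (pushOObj f (g i) (j i) (v i) (hw i) (Z i)) = pullObj f p W) ↔
      Set.range p.left ⊆ (openLocus f j v i W : Set T.left) := by
  constructor
  · rintro ⟨h, hh⟩ _ ⟨y, rfl⟩
    refine ⟨⟨(H i).hom (h.left y), ?_⟩, ?_⟩
    · exact (congr($(Over.w h) y)).trans (congr($(Over.w p) y)).symm
    · rintro ⟨z, hz, hzy⟩
      obtain ⟨a, ha⟩ := exists_isPullback_pull f p W.1
      have hA := ha.paste_vert (isPullback_XTmap f p)
      obtain ⟨t, ht1, -⟩ := Scheme.Pullback.exists_preimage_pullback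
        (f := W.1.subschemeι ≫ pullback.snd f T.hom) (g := p.left) z y hzy
      let z' := hA.isoPullback.inv t
      have hz' : a z' = z := by
        rw [← ht1, ← hA.isoPullback_inv_fst]
        rfl
      apply hz
      show pullback.fst f T.hom (W.1.subschemeι z) ∈ Set.range (j i)
      rw [← hz', ← fst_pull_ι f p W.1 ha z']
      have key : ∀ (K : (PicF.XT f T').IdealSheafData),
          K = HilbD.pull f h (pushO f (g i) (j i) (v i) (hw i) (H i) (Z i).1) →
          ∀ w : K.subscheme, pullback.fst f T'.hom (K.subschemeι w) ∈ Set.range (j i) := by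
        rintro _ rfl w
        obtain ⟨b, hb⟩ := exists_isPullback_pull f h (pushO f (g i) (j i) (v i) (hw i) (H i) (Z i).1)
        rw [fst_pull_ι f h _ hb w]
        let k := (Z i).1.subschemeι ≫ XOincl f (g i) (j i) (v i) (hw i) (H i)
        haveI := isClosedImmersion_push f (g i) (j i) (v i) (hw i) (Z i)
        have hk : k.imageι = inv k.toImage ≫ k := by
          rw [IsIso.eq_inv_comp, Scheme.Hom.toImage_imageι]
        refine (range_XOincl f (g i) (j i) (v i) (hw i) (H i)).subset
          ⟨(inv k.toImage ≫ (Z i).1.subschemeι) (b w), ?_⟩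
        show _ = k.imageι (b w)
        rw [hk]
        rfl
      exact key _ (congrArg (Subtype.val : HilbD.Obj f d T' → _) hh).symm z'
  · intro hr
    have hrv : Set.range T'.hom ⊆ Set.range (v i) := by
      rintro _ ⟨y, rfl⟩
      rw [← Over.w p]
      exact (hr ⟨y, rfl⟩).1
    let TV : Over (V i) := Over.mk (IsOpenImmersion.lift (v i) T'.hom hrv)
    let c : overS (v i) TV ⟶ T' := Over.homMk (𝟙 _)
      ((Category.id_comp _).trans (IsOpenImmersion.lift_fac _ _ hrv).symm)
    let c' : T' ⟶ overS (v i) TV := Over.homMk (𝟙 _)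
      ((Category.id_comp _).trans (IsOpenImmersion.lift_fac _ _ hrv))
    have hcc : c' ≫ c = 𝟙 T' := Over.OverMorphism.ext (Category.id_comp _)
    let W' : HilbD.Obj f d (overS (v i) TV) := pullObj f (c ≫ p) W
    have hsub : Set.range W'.1.subschemeι ⊆
        Set.range (XOincl f (g i) (j i) (v i) (hw i) TV) := by
      rintro _ ⟨w, rfl⟩
      rw [range_XOincl]
      obtain ⟨a, ha⟩ := exists_isPullback_pull f (c ≫ p) W.1
      show pullback.fst f _ ((HilbD.pull f (c ≫ p) W.1).subschemeι w) ∈ Set.range (j i)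
      rw [fst_pull_ι f (c ≫ p) W.1 ha w]
      by_contra hn
      have hA := ha.paste_vert (isPullback_XTmap f (c ≫ p))
      let y := ((HilbD.pull f (c ≫ p) W.1).subschemeι ≫ PicF.XTproj f (overS (v i) TV)) w
      exact (hr (⟨c.left y, rfl⟩ : p.left (c.left y) ∈ Set.range p.left)).2
        ⟨a w, hn, congr($(hA.w) w)⟩
    obtain ⟨Z'', hZ''⟩ := exists_eq_pushO f (g i) (j i) (v i) (hw i) W' hsub
    obtain ⟨k, hk, -⟩ := hu i TV Z''
    refine ⟨c' ≫ overSMap (v i) k, Subtype.ext ?_⟩
    show HilbD.pull f (c' ≫ overSMap (v i) k) (pushO f (g i) (j i) (v i) (hw i) (H i) (Z i).1) =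
      HilbD.pull f p W.1
    rw [pull_comp, pull_pushO, hk, hZ'']
    show HilbD.pull f c' (HilbD.pull f (c ≫ p) W.1) = _
    rw [← pull_comp, ← Category.assoc, hcc, Category.id_comp]

/-- Representability from an open cover by representable open subfunctors. -/
theorem representable_of_open_cover
    (hc : ∀ (T : Over S) (W : HilbD.Obj f d T) (x : T.left), ∃ i, T.hom x ∈ Set.range (v i) ∧
      ∀ z, (W.1.subschemeι ≫ PicF.XTproj f T) z = x →
        (W.1.subschemeι ≫ pullback.fst f T.hom) z ∈ Set.range (j i)) :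
    HilbD.Representable f d :=
  representable_of_isRepresentable _ _
    (H8Props.WeilRes.isRepresentable_of_open_cover (F := hilbF f d)
      (isZariskiGluing_hilbF _ _) (fun i => overS (v i) (H i))
      (fun i => pushOObj f (g i) (j i) (v i) (hw i) (Z i))
      (fun i _ h h' e => open_hom_ext f g j v hw H Z hu i h h' e)
      fun T W => ⟨fun i => openLocus f j v i W,
        fun x => by
          obtain ⟨i, hi1, hi2⟩ := hc T W x
          exact ⟨i, hi1, fun ⟨z, hz, hzx⟩ => hz (hi2 z hzx)⟩,
        fun i _ p => open_factors_iff f g j v hw H Z hu i W p⟩)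

end Groth.Agent.H27HilbOps
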