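/-
`HilbD.push` along a closed immersion: the image of `Hilb^d` of a closed subscheme consists of the
families contained in it.
-/
import Groth.Agent.H27HilbOps.Basic

set_option autoImplicit false
set_option backward.isDefEq.respectTransparency false
set_option backward.isDefEq.respectTransparency.types false

universe u

open CategoryTheory CategoryTheory.Limits AlgebraicGeometry

namespace Groth.Agent.H27HilbOps

section closed

variable {V W : Scheme.{u}} (j : V ⟶ W) [IsClosedImmersion j]

lemma comap_map_of_isClosedImmersion (I : V.IdealSheafData) : (I.map j).comap j = I := by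
  let φ : I.subscheme ⟶ pullback j (I.subschemeι ≫ j) :=
    pullback.lift I.subschemeι (𝟙 _) (by simp)
  haveI : IsIso φ := by
    refine ⟨pullback.snd _ _, pullback.lift_snd _ _ _, ?_⟩
    apply pullback.hom_ext
    · rw [← cancel_mono j]
      simp [φ, pullback.condition]
    · simp [φ]
  rw [Scheme.IdealSheafData.map, ← Scheme.IdealSheafData.ker_fst_of_isClosedImmersion,
    ← Scheme.Hom.ker_comp_of_isIso φ, pullback.lift_fst, Scheme.IdealSheafData.ker_subschemeι]

lemma map_comap_of_ker_le {K : W.IdealSheafData} (h : j.ker ≤ K) : (K.comap j).map j = K := by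
  refine le_antisymm ?_ (K.le_map_comap j)
  let l := IsClosedImmersion.lift j K.subschemeι (h.trans K.ker_subschemeι.ge)
  have hl : l ≫ j = K.subschemeι := IsClosedImmersion.lift_fac _ _ _
  let φ : K.subscheme ⟶ pullback j K.subschemeι := pullback.lift l (𝟙 _) (by simp [hl])
  have hφ : φ ≫ pullback.fst _ _ ≫ j = K.subschemeι := by
    rw [pullback.lift_fst_assoc, hl]
  calc (K.comap j).map j = ((K.comapIso j).hom ≫ pullback.fst _ _ ≫ j).ker := by
        rw [Scheme.IdealSheafData.comapIso_hom_fst_assoc]; rfl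
    _ = (pullback.fst j K.subschemeι ≫ j).ker := Scheme.Hom.ker_comp_of_isIso _ _
    _ ≤ (φ ≫ pullback.fst j K.subschemeι ≫ j).ker := Scheme.Hom.le_ker_comp _ _
    _ = K := by rw [hφ, Scheme.IdealSheafData.ker_subschemeι]

omit [IsClosedImmersion j] in
lemma ker_le_map (I : V.IdealSheafData) : j.ker ≤ I.map j :=
  Scheme.Hom.le_ker_comp _ _

end closed

section push

variable {X Y S : Scheme.{u}} (i : X ⟶ Y) (g : Y ⟶ S)

/-- `X_T ⟶ Y_T`. -/
noncomputable def XTincl (T : Over S) : PicF.XT (i ≫ g) T ⟶ PicF.XT g T :=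
  pullback.map (i ≫ g) T.hom g T.hom i (𝟙 _) (𝟙 S) (Category.comp_id _) (by simp)

lemma push_eq_map (T : Over S) (I : (PicF.XT (i ≫ g) T).IdealSheafData) :
    HilbD.push i g T I = I.map (XTincl i g T) := rfl

@[simp, reassoc]
lemma XTincl_fst (T : Over S) :
    XTincl i g T ≫ pullback.fst g T.hom = pullback.fst (i ≫ g) T.hom ≫ i := by
  simp [XTincl]

@[simp, reassoc]
lemma XTincl_snd (T : Over S) :
    XTincl i g T ≫ pullback.snd g T.hom = pullback.snd (i ≫ g) T.hom := by
  simp [XTincl]

lemma isPullback_XTincl (T : Over S) :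
    IsPullback (XTincl i g T) (pullback.fst (i ≫ g) T.hom) (pullback.fst g T.hom) i :=
  IsPullback.of_right (by rw [XTincl_snd]; exact (IsPullback.of_hasPullback (i ≫ g) T.hom).flip)
    (XTincl_fst i g T) (IsPullback.of_hasPullback g T.hom).flip

lemma XTincl_naturality {T T' : Over S} (h : T' ⟶ T) :
    PicF.XTmap (i ≫ g) h ≫ XTincl i g T = XTincl i g T' ≫ PicF.XTmap g h := by
  apply pullback.hom_ext <;> simp [PicF.XTmap, XTincl]

variable [IsClosedImmersion i]

instance XTincl_isClosedImmersion (T : Over S) : IsClosedImmersion (XTincl i g T) :=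
  MorphismProperty.of_isPullback (P := @IsClosedImmersion) (isPullback_XTincl i g T).flip
    inferInstance

lemma pull_ker_XTincl {T T' : Over S} (h : T' ⟶ T) :
    HilbD.pull g h (XTincl i g T).ker = (XTincl i g T').ker := by
  have hsq : IsPullback (PicF.XTmap (i ≫ g) h) (XTincl i g T') (XTincl i g T) (PicF.XTmap g h) := by
    refine IsPullback.of_right ?_ (XTincl_naturality i g h) (isPullback_XTincl i g T).flip
    rw [show PicF.XTmap (i ≫ g) h ≫ pullback.fst (i ≫ g) T.hom = pullback.fst (i ≫ g) T'.hom by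
      simp [PicF.XTmap], show PicF.XTmap g h ≫ pullback.fst g T.hom = pullback.fst g T'.hom by
      simp [PicF.XTmap]]
    exact (isPullback_XTincl i g T').flip
  rw [H27HilbOne.pull_eq_comap, ← Scheme.IdealSheafData.ker_fst_of_isClosedImmersion,
    ← Scheme.Hom.ker_comp_of_isIso hsq.flip.isoPullback.hom, hsq.flip.isoPullback_hom_fst]

lemma ker_le_push (T : Over S) (I : (PicF.XT (i ≫ g) T).IdealSheafData) :
    (XTincl i g T).ker ≤ HilbD.push i g T I := ker_le_map _ I

lemma push_injective (T : Over S) : Function.Injective (HilbD.push i g T) := by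
  intro I J h
  rw [← comap_map_of_isClosedImmersion (XTincl i g T) I,
    ← comap_map_of_isClosedImmersion (XTincl i g T) J, ← push_eq_map, ← push_eq_map, h]

lemma push_comap {T : Over S} {K : (PicF.XT g T).IdealSheafData} (h : (XTincl i g T).ker ≤ K) :
    HilbD.push i g T (K.comap (XTincl i g T)) = K := map_comap_of_ker_le _ h

/-- Base change commutes with pushing forward. -/
lemma pull_push {T T' : Over S} (h : T' ⟶ T) (I : (PicF.XT (i ≫ g) T).IdealSheafData) :
    HilbD.pull g h (HilbD.push i g T I) = HilbD.push i g T' (HilbD.pull (i ≫ g) h I) := by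
  have hle : (XTincl i g T').ker ≤ HilbD.pull g h (HilbD.push i g T I) := by
    rw [← pull_ker_XTincl i g h]
    exact pull_mono g h (ker_le_push i g T I)
  rw [← push_comap i g hle, H27HilbOne.pull_eq_comap g, ← Scheme.IdealSheafData.comap_comp,
    ← XTincl_naturality, Scheme.IdealSheafData.comap_comp, push_eq_map i g T,
    comap_map_of_isClosedImmersion, ← H27HilbOne.pull_eq_comap]

lemma isFinLocFreeOfDeg_push_iff (d : ℕ) {T : Over S}
    (I : (PicF.XT (i ≫ g) T).IdealSheafData) :
    Mor2.IsFinLocFreeOfDeg d ((HilbD.push i g T I).subschemeι ≫ PicF.XTproj g T) ↔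
      Mor2.IsFinLocFreeOfDeg d (I.subschemeι ≫ PicF.XTproj (i ≫ g) T) := by
  let k := I.subschemeι ≫ XTincl i g T
  have hk : k.toImage ≫ (HilbD.push i g T I).subschemeι ≫ PicF.XTproj g T =
      I.subschemeι ≫ PicF.XTproj (i ≫ g) T := by
    change k.toImage ≫ k.imageι ≫ pullback.snd g T.hom = _
    rw [Scheme.Hom.toImage_imageι_assoc, Category.assoc, XTincl_snd]
  haveI : IsClosedImmersion k := inferInstanceAs (IsClosedImmersion (_ ≫ _))
  haveI : IsIso k.toImage := inferInstance
  have key : ∀ {A B C : Scheme.{u}} (e : A ⟶ B) [IsIso e] (p : B ⟶ C),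
      Mor2.IsFinLocFreeOfDeg d p → Mor2.IsFinLocFreeOfDeg d (e ≫ p) := by
    rintro A B C e _ p ⟨⟨h1, h2, h3⟩, hr⟩
    haveI := h1; haveI := h2; haveI := h3
    exact ⟨⟨inferInstance, inferInstance, inferInstance⟩, fun y => by
      rw [Scheme.Hom.finrank_comp_left_of_isIso, hr]⟩
  constructor
  · intro h
    exact hk ▸ key k.toImage _ h
  · intro h
    rw [← hk] at h
    have := key (inv k.toImage) _ h
    rwa [IsIso.inv_hom_id_assoc] at this

/-- Pushforward on `Hilb^d`. -/
noncomputable def pushObj {d : ℕ} {T : Over S} (Z : HilbD.Obj (i ≫ g) d T) : HilbD.Obj g d T :=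
  ⟨HilbD.push i g T Z.1, (isFinLocFreeOfDeg_push_iff i g d Z.1).mpr Z.2⟩

end push

end Groth.Agent.H27HilbOps
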