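import Groth.Agent.H27HilbOps.Represent
import Groth.Agent.H29Blow.Basic
import Groth.Agent.H11Sym.BundleCoprod
import Groth.Agent.H7Flat.FiniteExtend
import Mathlib

/-! # Disjoint unions of families of finite subschemes -/

set_option autoImplicit false
set_option linter.style.haveILetI false
set_option backward.isDefEq.respectTransparency false
set_option backward.isDefEq.respectTransparency.types false

universe u

open CategoryTheory CategoryTheory.Limits AlgebraicGeometry TopologicalSpace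

namespace Groth.Agent.H27HilbOps.Union

variable {P : Scheme.{u}}

theorem le_ker_desc_iff {A B : Scheme.{u}} (a : A ⟶ P) (b : B ⟶ P) (J : P.IdealSheafData) :
    J ≤ (coprod.desc a b).ker ↔ J ≤ a.ker ∧ J ≤ b.ker := by
  simp only [← exists_lift_subschemeι_iff]
  constructor
  · rintro ⟨l, hl⟩
    exact ⟨⟨coprod.inl ≫ l, by rw [Category.assoc, hl, coprod.inl_desc]⟩,
      ⟨coprod.inr ≫ l, by rw [Category.assoc, hl, coprod.inr_desc]⟩⟩
  · rintro ⟨⟨l, hl⟩, ⟨l', hl'⟩⟩
    exact ⟨coprod.desc l l', by apply coprod.hom_ext <;> simp [hl, hl']⟩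

theorem ker_desc {A B : Scheme.{u}} (a : A ⟶ P) (b : B ⟶ P) : (coprod.desc a b).ker = a.ker ⊓ b.ker :=
  eq_of_forall_le_iff fun J => (le_ker_desc_iff a b J).trans le_inf_iff.symm

theorem sup_eq_top {I J : P.IdealSheafData} (hd : Disjoint (I.support : Set P) (J.support : Set P))
    (U : P.affineOpens) : I.ideal U ⊔ J.ideal U = ⊤ := by
  by_contra hne
  obtain ⟨m, hm, hle⟩ := Ideal.exists_le_maximal _ hne
  let x := U.2.fromSpec ⟨m, hm.isPrime⟩
  have hxU : x ∈ (U.1 : Set P) := by rw [← U.2.range_fromSpec]; exact ⟨_, rfl⟩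
  have hmem : ∀ K : P.IdealSheafData, K.ideal U ≤ m → x ∈ (K.support : Set P) := fun K hK => by
    have h := K.coe_support_inter U
    have : x ∈ P.zeroLocus (U := U.1) (K.ideal U : Set Γ(P, U.1)) ∩ U.1 := by
      refine ⟨?_, hxU⟩
      rw [Scheme.mem_zeroLocus_iff]
      intro s hs hsx
      have : (⟨m, hm.isPrime⟩ : PrimeSpectrum Γ(P, U.1)) ∈ U.2.fromSpec ⁻¹ᵁ P.basicOpen s := hsx
      rw [U.2.fromSpec_preimage_basicOpen] at this
      exact this (hK hs)
    rw [← h] at this
    exact this.1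
  exact Set.disjoint_left.1 hd (hmem I (le_sup_left.trans hle)) (hmem J (le_sup_right.trans hle))

theorem mul_eq_inf {I J : P.IdealSheafData} (hd : Disjoint (I.support : Set P) (J.support : Set P)) :
    I * J = I ⊓ J := by
  refine Scheme.IdealSheafData.ext (funext fun U => ?_)
  rw [Scheme.IdealSheafData.ideal_mul, Pi.mul_apply, Scheme.IdealSheafData.ideal_inf, Pi.inf_apply]
  exact Ideal.mul_eq_inf_of_coprime (sup_eq_top hd U)

theorem le_of_mul_eq {I₁ I₂ J₁ J₂ : P.IdealSheafData} (h : I₁ * I₂ = J₁ * J₂)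
    (hd : Disjoint (I₁.support : Set P) (J₂.support : Set P)) : J₁ ≤ I₁ := by
  intro U a ha
  obtain ⟨s, hs, t, ht, hst⟩ := Submodule.mem_sup.1 ((sup_eq_top hd U).ge (Submodule.mem_top (x := (1 : Γ(P, U.1)))))
  have hle : a * t ∈ I₁.ideal U := by
    have h' := congrArg (fun K : P.IdealSheafData => K.ideal U) h
    simp only [Scheme.IdealSheafData.ideal_mul, Pi.mul_apply] at h'
    exact (Ideal.mul_le_inf (I := I₁.ideal U) (J := I₂.ideal U) (h'.ge (Ideal.mul_mem_mul ha ht))).1
  have : a = a * s + a * t := by rw [← mul_add, hst, mul_one]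
  rw [this]
  exact add_mem (Ideal.mul_mem_left _ a hs) hle

theorem eq_of_mul_eq {I₁ I₂ J₁ J₂ : P.IdealSheafData} (h : I₁ * I₂ = J₁ * J₂)
    (hd : Disjoint (I₁.support : Set P) (J₂.support : Set P))
    (hd' : Disjoint (J₁.support : Set P) (I₂.support : Set P)) : I₁ = J₁ ∧ I₂ = J₂ :=
  ⟨le_antisymm (le_of_mul_eq h.symm hd') (le_of_mul_eq h hd),
    le_antisymm (le_of_mul_eq (((mul_comm _ _).trans h.symm).trans (mul_comm _ _)) hd.symm)
      (le_of_mul_eq (((mul_comm _ _).trans h).trans (mul_comm _ _)) hd'.symm)⟩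

theorem disjoint_support {I J : P.IdealSheafData} (h : ∀ a b, I.subschemeι a ≠ J.subschemeι b) :
    Disjoint (I.support : Set P) (J.support : Set P) := by
  rw [← Scheme.IdealSheafData.range_subschemeι, ← Scheme.IdealSheafData.range_subschemeι, Set.disjoint_left]
  rintro _ ⟨a, rfl⟩ ⟨b, hb⟩
  exact h a b hb.symm

/-- The subscheme of the product of disjoint ideals is the disjoint union. -/
theorem exists_iso {I J : P.IdealSheafData} (h : ∀ a b, I.subschemeι a ≠ J.subschemeι b) :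
    ∃ e : I.subscheme ⨿ J.subscheme ≅ (I * J).subscheme,
      e.hom ≫ (I * J).subschemeι = coprod.desc I.subschemeι J.subschemeι := by
  haveI := H11Sym.BundleCoprod.isClosedImmersion_desc I.subschemeι J.subschemeι h
  have hk : (coprod.desc I.subschemeι J.subschemeι).ker = I * J := by
    rw [ker_desc, Scheme.IdealSheafData.ker_subschemeι, Scheme.IdealSheafData.ker_subschemeι,
      mul_eq_inf (disjoint_support h)]
  revert hk
  generalize I * J = K
  rintro rfl
  exact ⟨asIso (coprod.desc I.subschemeι J.subschemeι).toImage, Scheme.Hom.toImage_imageι _⟩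

/-- A property local at the source holds for a map out of a disjoint union. -/
theorem prop_desc (R : MorphismProperty Scheme.{u}) [IsZariskiLocalAtSource R] {A B T : Scheme.{u}} (a : A ⟶ T)
    (b : B ⟶ T) (ha : R a) (hb : R b) : R (coprod.desc a b) := by
  rw [IsZariskiLocalAtSource.iff_of_openCover (P := R) (coprodOpenCover.{_, u} A B)]
  rintro (⟨⟩ | ⟨⟩)
  · show R (coprod.inl ≫ coprod.desc a b); rwa [coprod.inl_desc]
  · show R (coprod.inr ≫ coprod.desc a b); rwa [coprod.inr_desc]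

section field

variable {K : Type u} [Field K]

theorem exists_specMap {A : Scheme.{u}} (a : A ⟶ Spec (CommRingCat.of K)) [IsFinite a] :
    ∃ (R : CommRingCat.{u}) (φ : CommRingCat.of K ⟶ R) (e : A ≅ Spec R), e.hom ≫ Spec.map φ = a ∧ φ.hom.Finite := by
  haveI : IsAffine A := isAffine_of_isAffineHom a
  obtain ⟨φ, hφ⟩ := Spec.map_surjective (A.isoSpec.inv ≫ a)
  refine ⟨_, φ, A.isoSpec, by rw [hφ, Iso.hom_inv_id_assoc], ?_⟩
  rw [← IsFinite.SpecMap_iff, hφ]
  infer_instance

theorem isFinLocFree_field {A : Scheme.{u}} (a : A ⟶ Spec (CommRingCat.of K)) [IsFinite a] :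
    Mor2.IsFinLocFree a := by
  obtain ⟨R, φ, e, rfl, hφ⟩ := exists_specMap a
  haveI : Flat (Spec.map φ) := by
    rw [Flat.SpecMap_iff]
    letI := φ.hom.toAlgebra
    exact Module.Flat.of_free
  haveI : LocallyOfFinitePresentation (Spec.map φ) := by
    rw [HasRingHomProperty.Spec_iff (P := @LocallyOfFinitePresentation)]
    exact RingHom.FinitePresentation.of_finiteType.1 hφ.finiteType
  exact ⟨inferInstance, inferInstance, inferInstance⟩

theorem finrank_desc_field {A B : Scheme.{u}} (a : A ⟶ Spec (CommRingCat.of K)) (b : B ⟶ Spec (CommRingCat.of K))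
    [IsFinite a] [IsFinite b] (y : Spec (CommRingCat.of K)) :
    (coprod.desc a b).finrank y = a.finrank y + b.finrank y := by
  obtain ⟨R, φ, e, rfl, hφ⟩ := exists_specMap a
  obtain ⟨R', φ', e', rfl, hφ'⟩ := exists_specMap b
  letI := φ.hom.toAlgebra
  letI := φ'.hom.toAlgebra
  haveI : Module.Finite K R := hφ
  haveI : Module.Finite K R' := hφ'
  let χ : CommRingCat.of K ⟶ CommRingCat.of (R × R') := CommRingCat.ofHom (φ.hom.prod φ'.hom)
  have hdesc : coprod.desc (e.hom ≫ Spec.map φ) (e'.hom ≫ Spec.map φ') =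
      (coprod.map e.hom e'.hom ≫ coprodSpec R R') ≫ Spec.map χ := by
    apply coprod.hom_ext
    · simp only [coprod.inl_desc, coprod.inl_map_assoc, Category.assoc]
      erw [coprodSpec_inl_assoc]
      rw [← Spec.map_comp]
      rfl
    · simp only [coprod.inr_desc, coprod.inr_map_assoc, Category.assoc]
      erw [coprodSpec_inr_assoc]
      rw [← Spec.map_comp]
      rfl
  have hfin : ∀ {T : CommRingCat.{u}} (ψ : CommRingCat.of K ⟶ T), ψ.hom.Finite → ψ.hom.Flat := fun ψ _ => by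
    letI := ψ.hom.toAlgebra
    exact Module.Flat.of_free
  have hχ : χ.hom.Finite := (inferInstance : Module.Finite K (↑R × ↑R'))
  haveI : IsFinite (Spec.map φ) := (IsFinite.SpecMap_iff φ).2 hφ
  haveI : IsFinite (Spec.map φ') := (IsFinite.SpecMap_iff φ').2 hφ'
  haveI : IsFinite (Spec.map χ) := (IsFinite.SpecMap_iff χ).2 hχ
  haveI : Flat (Spec.map φ) := Flat.SpecMap_iff.2 (hfin φ hφ)
  haveI : Flat (Spec.map φ') := Flat.SpecMap_iff.2 (hfin φ' hφ')
  haveI : Flat (Spec.map χ) := Flat.SpecMap_iff.2 (hfin χ hχ)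
  rw [hdesc, Scheme.Hom.finrank_comp_left_of_isIso, Scheme.Hom.finrank_comp_left_of_isIso,
    Scheme.Hom.finrank_comp_left_of_isIso, Scheme.Hom.finrank_SpecMap_eq_finrank hχ (hfin χ hχ),
    Scheme.Hom.finrank_SpecMap_eq_finrank hφ (hfin φ hφ), Scheme.Hom.finrank_SpecMap_eq_finrank hφ' (hfin φ' hφ')]
  simp only [RingHom.finrank]
  exact congrFun (Module.rankAtStalk_prod (R := K) (↑R) (↑R')) y

end field

variable {X S : Scheme.{u}} (f : X ⟶ S)

/-- The family lies over a given subset of `X`. -/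
def Sup {T : Over S} (I : (PicF.XT f T).IdealSheafData) (Q : Set X) : Prop :=
  ∀ z : I.subscheme, (I.subschemeι ≫ pullback.fst f T.hom) z ∈ Q

theorem Sup.pull {T T' : Over S} {I : (PicF.XT f T).IdealSheafData} {Q : Set X} (h : Sup f I Q) (g : T' ⟶ T) :
    Sup f (HilbD.pull f g I) Q := by
  intro z
  obtain ⟨a, ha⟩ := exists_isPullback_pull f g I
  have := fst_pull_ι f g I ha z
  simp only [Scheme.Hom.comp_apply]
  rw [this]
  simpa only [Scheme.Hom.comp_apply] using h (a z)

variable {f}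

theorem Sup.ne {T : Over S} {I J : (PicF.XT f T).IdealSheafData} {Q : Set X} (hI : Sup f I Qᶜ) (hJ : Sup f J Q)
    (a : I.subscheme) (b : J.subscheme) : I.subschemeι a ≠ J.subschemeι b := fun h => by
  have := hI a
  simp only [Scheme.Hom.comp_apply, h] at this
  exact this (by simpa only [Scheme.Hom.comp_apply] using hJ b)

theorem Sup.disjoint {T : Over S} {I J : (PicF.XT f T).IdealSheafData} {Q : Set X} (hI : Sup f I Qᶜ)
    (hJ : Sup f J Q) : Disjoint (I.support : Set (PicF.XT f T)) (J.support : Set (PicF.XT f T)) :=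
  disjoint_support (hI.ne hJ)

theorem pull_ne {T T' : Over S} {I J : (PicF.XT f T).IdealSheafData}
    (hd : ∀ a b, I.subschemeι a ≠ J.subschemeι b) (g : T' ⟶ T)
    (a : (HilbD.pull f g I).subscheme) (b : (HilbD.pull f g J).subscheme) :
    (HilbD.pull f g I).subschemeι a ≠ (HilbD.pull f g J).subschemeι b := fun h => by
  obtain ⟨u, hu⟩ := exists_isPullback_pull f g I
  obtain ⟨v, hv⟩ := exists_isPullback_pull f g J
  refine hd (u a) (v b) ?_
  rw [← Scheme.Hom.comp_apply, hu.w, Scheme.Hom.comp_apply, h, ← Scheme.Hom.comp_apply, ← hv.w]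
  rfl

/-- The union of two disjoint families. -/
theorem isFinLocFreeOfDeg_mul' {T : Over S} {I J : (PicF.XT f T).IdealSheafData}
    (hd : ∀ a b, I.subschemeι a ≠ J.subschemeι b) {d₁ d₂ : ℕ} (h₁ : Mor2.IsFinLocFreeOfDeg d₁ (I.subschemeι ≫ PicF.XTproj f T))
    (h₂ : Mor2.IsFinLocFreeOfDeg d₂ (J.subschemeι ≫ PicF.XTproj f T)) :
    Mor2.IsFinLocFreeOfDeg (d₁ + d₂) ((I * J).subschemeι ≫ PicF.XTproj f T) := by
  obtain ⟨e, he⟩ := exists_iso hd
  have hp : (I * J).subschemeι ≫ PicF.XTproj f T =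
      e.inv ≫ coprod.desc (I.subschemeι ≫ PicF.XTproj f T) (J.subschemeι ≫ PicF.XTproj f T) := by
    rw [Iso.eq_inv_comp, reassoc_of% he]
    apply coprod.hom_ext <;> simp
  obtain ⟨hf₁, hfl₁, hp₁⟩ := h₁.1
  obtain ⟨hf₂, hfl₂, hp₂⟩ := h₂.1
  haveI : IsFinite (coprod.desc (I.subschemeι ≫ PicF.XTproj f T) (J.subschemeι ≫ PicF.XTproj f T)) :=
    H7Flat.FiniteExtend.isFinite_coprodDesc _ _
  haveI : Flat (coprod.desc (I.subschemeι ≫ PicF.XTproj f T) (J.subschemeι ≫ PicF.XTproj f T)) :=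
    prop_desc _ _ _ hfl₁ hfl₂
  haveI : LocallyOfFinitePresentation
      (coprod.desc (I.subschemeι ≫ PicF.XTproj f T) (J.subschemeι ≫ PicF.XTproj f T)) := prop_desc _ _ _ hp₁ hp₂
  haveI : IsFinite ((I * J).subschemeι ≫ PicF.XTproj f T) := hp ▸ inferInstance
  haveI : Flat ((I * J).subschemeι ≫ PicF.XTproj f T) := hp ▸ inferInstance
  refine ⟨⟨inferInstance, inferInstance, hp ▸ inferInstance⟩, fun t => ?_⟩
  -- pass to the fibre
  let Tk : Over S := Over.mk (T.left.fromSpecResidueField t ≫ T.hom)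
  let g : Tk ⟶ T := Over.homMk (T.left.fromSpecResidueField t) rfl
  let pt : Tk.left := IsLocalRing.closedPoint (T.left.residueField t)
  have hpt : g.left pt = t := T.left.fromSpecResidueField_apply t _
  have key : ∀ (K : (PicF.XT f T).IdealSheafData) [Flat (K.subschemeι ≫ PicF.XTproj f T)]
      [IsFinite (K.subschemeι ≫ PicF.XTproj f T)],
      ((HilbD.pull f g K).subschemeι ≫ PicF.XTproj f Tk).finrank pt = (K.subschemeι ≫ PicF.XTproj f T).finrank t := by
    intro K _ _
    obtain ⟨a, ha⟩ := exists_isPullback_pull_proj f g K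
    rw [← hpt]
    exact Scheme.Hom.finrank_of_isPullback _ _ _ _ ha pt
  rw [← key, ← h₁.2 t, ← h₂.2 t, ← key I, ← key J]
  have hmul : HilbD.pull f g (I * J) = HilbD.pull f g I * HilbD.pull f g J := by
    simp only [H27HilbOne.pull_eq_comap, H29Blow.comap_mul]
  rw [hmul]
  obtain ⟨e', he'⟩ := exists_iso (pull_ne hd g)
  have hp' : (HilbD.pull f g I * HilbD.pull f g J).subschemeι ≫ PicF.XTproj f Tk =
      e'.inv ≫ coprod.desc ((HilbD.pull f g I).subschemeι ≫ PicF.XTproj f Tk)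
        ((HilbD.pull f g J).subschemeι ≫ PicF.XTproj f Tk) := by
    rw [Iso.eq_inv_comp, reassoc_of% he']
    apply coprod.hom_ext <;> simp
  haveI := (isFinLocFree_pull f g I h₁.1).1
  haveI := (isFinLocFree_pull f g J h₂.1).1
  haveI := (isFinLocFree_pull f g I h₁.1).2.1
  haveI := (isFinLocFree_pull f g J h₂.1).2.1
  haveI : IsFinite (coprod.desc ((HilbD.pull f g I).subschemeι ≫ PicF.XTproj f Tk)
      ((HilbD.pull f g J).subschemeι ≫ PicF.XTproj f Tk)) := H7Flat.FiniteExtend.isFinite_coprodDesc _ _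
  haveI : Flat (coprod.desc ((HilbD.pull f g I).subschemeι ≫ PicF.XTproj f Tk)
      ((HilbD.pull f g J).subschemeι ≫ PicF.XTproj f Tk)) :=
    prop_desc _ _ _ (isFinLocFree_pull f g I h₁.1).2.1 (isFinLocFree_pull f g J h₂.1).2.1
  rw [hp', Scheme.Hom.finrank_comp_left_of_isIso]
  exact finrank_desc_field (K := T.left.residueField t) _ _ pt

theorem isFinLocFreeOfDeg_mul {T : Over S} {I J : (PicF.XT f T).IdealSheafData} {Q : Set X} (hI : Sup f I Qᶜ)
    (hJ : Sup f J Q) {d₁ d₂ : ℕ} (h₁ : Mor2.IsFinLocFreeOfDeg d₁ (I.subschemeι ≫ PicF.XTproj f T))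
    (h₂ : Mor2.IsFinLocFreeOfDeg d₂ (J.subschemeι ≫ PicF.XTproj f T)) :
    Mor2.IsFinLocFreeOfDeg (d₁ + d₂) ((I * J).subschemeι ≫ PicF.XTproj f T) :=
  isFinLocFreeOfDeg_mul' (hI.ne hJ) h₁ h₂

end Groth.Agent.H27HilbOps.Union
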