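import Groth.Agent.H27HilbOps.Union
import Groth.Agent.H27K0Var.PtBij
import Groth.Agent.H17.Reduced
import Mathlib

/-! # The Hilbert scheme of points along a closed subset and its complement -/

set_option autoImplicit false
set_option linter.style.haveILetI false
set_option backward.isDefEq.respectTransparency false
set_option backward.isDefEq.respectTransparency.types false

universe u

open CategoryTheory CategoryTheory.Limits AlgebraicGeometry TopologicalSpace

namespace Groth.Agent.H27HilbOps.Split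

open Union

variable {X S : Scheme.{u}} (f : X ⟶ S)

/-- The points over which a family lies over `Q`. -/
def locus {T : Over S} (I : (PicF.XT f T).IdealSheafData) (Q : Set X) : Set T.left :=
  {h | ∀ z : I.subscheme, (I.subschemeι ≫ pullback.snd f T.hom) z = h →
    (I.subschemeι ≫ pullback.fst f T.hom) z ∈ Q}

theorem sup_pull_iff {T T' : Over S} (I : (PicF.XT f T).IdealSheafData) (g : T' ⟶ T) (Q : Set X) :
    Sup f (HilbD.pull f g I) Q ↔ ∀ t, g.left t ∈ locus f I Q := by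
  obtain ⟨a, ha⟩ := exists_isPullback_pull f g I
  have hp := ha.paste_vert (isPullback_XTmap f g)
  constructor
  · intro h t z hz
    obtain ⟨w, hw, -⟩ := Scheme.Pullback.exists_preimage_pullback z t hz
    have h1 : a (hp.isoPullback.inv w) = z := by
      rw [← Scheme.Hom.comp_apply, hp.isoPullback_inv_fst, hw]
    have h2 := h (hp.isoPullback.inv w)
    simp only [Scheme.Hom.comp_apply] at h2 ⊢
    rw [fst_pull_ι f g I ha, h1] at h2
    exact h2
  · intro h z
    have h1 : (I.subschemeι ≫ pullback.snd f T.hom) (a z) =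
        g.left (((HilbD.pull f g I).subschemeι ≫ pullback.snd f T'.hom) z) := by
      rw [← Scheme.Hom.comp_apply, ← Scheme.Hom.comp_apply]
      exact congr($(hp.w) z)
    have h2 := h _ (a z) h1
    simp only [Scheme.Hom.comp_apply] at h2 ⊢
    rw [fst_pull_ι f g I ha]
    exact h2

variable {f}

/-- Over a field a finite subscheme splits along any closed subset. -/
theorem exists_split {K : Type u} [Field K] (y : Spec (CommRingCat.of K) ⟶ S) {d : ℕ}
    (Z : HilbD.Obj f d (Over.mk y)) {Q : Set X} (hQ : IsClosed Q) :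
    ∃ (e₁ e₂ : ℕ) (Z₁ : HilbD.Obj f e₁ (Over.mk y)) (Z₂ : HilbD.Obj f e₂ (Over.mk y)),
      e₁ + e₂ = d ∧ Sup f Z₁.1 Qᶜ ∧ Sup f Z₂.1 Q ∧ Z₁.1 * Z₂.1 = Z.1 := by
  let T : Over S := Over.mk y
  let pt : T.left := IsLocalRing.closedPoint K
  let I := Z.1
  haveI : IsFinite (I.subschemeι ≫ PicF.XTproj f T) := Z.2.1.1
  obtain ⟨R, φ, e, -, hφ⟩ := exists_specMap (K := K) (I.subschemeι ≫ PicF.XTproj f T)
  haveI : DiscreteTopology I.subscheme := by
    letI := φ.hom.toAlgebra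
    haveI : Module.Finite K R := hφ
    haveI : IsArtinianRing R := IsArtinianRing.of_finite K R
    haveI : DiscreteTopology (Spec R) := inferInstanceAs (DiscreteTopology (PrimeSpectrum R))
    exact e.hom.homeomorph.symm.discreteTopology
  let O : I.subscheme.Opens := ⟨(I.subschemeι ≫ pullback.fst f T.hom) ⁻¹' Qᶜ, isOpen_discrete _⟩
  let O' : I.subscheme.Opens := ⟨(I.subschemeι ≫ pullback.fst f T.hom) ⁻¹' Q, isOpen_discrete _⟩
  haveI : IsClosedImmersion O.ι := IsClosedImmersion.of_isPreimmersion _ (isClosed_discrete _)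
  haveI : IsClosedImmersion O'.ι := IsClosedImmersion.of_isPreimmersion _ (isClosed_discrete _)
  let c := O.ι ≫ I.subschemeι
  let c' := O'.ι ≫ I.subschemeι
  have hfin : ∀ {W : Scheme.{u}} (c : W ⟶ PicF.XT f T) [IsClosedImmersion c],
      IsFinite (c ≫ PicF.XTproj f T) → IsFinite (c.ker.subschemeι ≫ PicF.XTproj f T) := fun c _ h => by
    have : c.ker.subschemeι ≫ PicF.XTproj f T = inv c.toImage ≫ c ≫ PicF.XTproj f T := by
      rw [IsIso.eq_inv_comp]
      exact Scheme.Hom.toImage_imageι_assoc c _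
    rw [this]
    infer_instance
  have hdeg : ∀ (J : (PicF.XT f T).IdealSheafData), IsFinite (J.subschemeι ≫ PicF.XTproj f T) →
      Mor2.IsFinLocFreeOfDeg ((J.subschemeι ≫ PicF.XTproj f T).finrank pt) (J.subschemeι ≫ PicF.XTproj f T) :=
    fun J hJ => ⟨isFinLocFree_field (K := K) _, fun t => by rw [show t = pt from Subsingleton.elim (α := PrimeSpectrum K) _ _]⟩
  have h₁ := hdeg c.ker (hfin c (by rw [Category.assoc]; infer_instance))
  have h₂ := hdeg c'.ker (hfin c' (by rw [Category.assoc]; infer_instance))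
  have hsup : Sup f c.ker Qᶜ := fun z => by
    obtain ⟨w, rfl⟩ := (Scheme.homeoOfIso (asIso c.toImage)).surjective z
    have h := w.2
    show (c.imageι ≫ pullback.fst f T.hom) (c.toImage w) ∈ Qᶜ
    rw [← Scheme.Hom.comp_apply, Scheme.Hom.toImage_imageι_assoc]
    exact h
  have hsup' : Sup f c'.ker Q := fun z => by
    obtain ⟨w, rfl⟩ := (Scheme.homeoOfIso (asIso c'.toImage)).surjective z
    have h := w.2
    show (c'.imageι ≫ pullback.fst f T.hom) (c'.toImage w) ∈ Q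
    rw [← Scheme.Hom.comp_apply, Scheme.Hom.toImage_imageι_assoc]
    exact h
  have hmul : c.ker * c'.ker = I := by
    rw [mul_eq_inf (hsup.disjoint hsup'), ← ker_desc]
    have hd : coprod.desc c c' = coprod.desc O.ι O'.ι ≫ I.subschemeι := by
      apply coprod.hom_ext <;> simp [c, c']
    obtain ⟨hc⟩ := nonempty_isColimit_binaryCofanMk_of_isCompl O.ι O'.ι (by
      rw [Scheme.Opens.opensRange_ι, Scheme.Opens.opensRange_ι, isCompl_iff, disjoint_iff, codisjoint_iff,
        ← TopologicalSpace.Opens.coe_inj, ← TopologicalSpace.Opens.coe_inj]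
      exact ⟨Set.ext fun z => ⟨fun h => absurd h.2 h.1, False.elim⟩,
        Set.eq_univ_of_forall fun z => (em _).symm⟩)
    haveI : IsIso (coprod.desc O.ι O'.ι) := by
      have : coprod.desc O.ι O'.ι = ((coprodIsCoprod _ _).coconePointUniqueUpToIso hc).hom := by
        apply coprod.hom_ext
        · rw [coprod.inl_desc]
          exact ((coprodIsCoprod _ _).comp_coconePointUniqueUpToIso_hom hc ⟨WalkingPair.left⟩).symm
        · rw [coprod.inr_desc]
          exact ((coprodIsCoprod _ _).comp_coconePointUniqueUpToIso_hom hc ⟨WalkingPair.right⟩).symm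
      rw [this]
      infer_instance
    rw [hd, Scheme.Hom.ker_comp_of_isIso, Scheme.IdealSheafData.ker_subschemeι]
  refine ⟨_, _, ⟨c.ker, h₁⟩, ⟨c'.ker, h₂⟩, ?_, hsup, hsup', hmul⟩
  have h := (isFinLocFreeOfDeg_mul hsup hsup' h₁ h₂).2 pt
  rw [hmul, Z.2.2 pt] at h
  exact h.symm

variable {k : Type u} [Field k] {X : Scheme.{u}} {f : X ⟶ Spec (CommRingCat.of k)}

theorem Sup.mul {T : Over (Spec (CommRingCat.of k))} {I J : (PicF.XT f T).IdealSheafData} {Q₁ Q₂ Q : Set X}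
    (hd : ∀ a b, I.subschemeι a ≠ J.subschemeι b) (hI : Sup f I Q₁) (hJ : Sup f J Q₂) (h₁ : Q₁ ⊆ Q) (h₂ : Q₂ ⊆ Q) :
    Sup f (I * J) Q := by
  obtain ⟨e, he⟩ := exists_iso hd
  intro z
  obtain ⟨w, rfl⟩ := (Scheme.homeoOfIso e).surjective z
  obtain ⟨w | w, rfl⟩ := (coprodMk _ _).surjective w
  · have : (I * J).subschemeι (e.hom ((coprodMk _ _) (.inl w))) = I.subschemeι w := by
      rw [coprodMk_inl, ← Scheme.Hom.comp_apply, ← Scheme.Hom.comp_apply, he, coprod.inl_desc]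
    refine h₁ ?_
    have := congrArg (pullback.fst f T.hom) this
    simp only [Scheme.Hom.comp_apply]
    exact this ▸ (by simpa only [Scheme.Hom.comp_apply] using hI w)
  · have : (I * J).subschemeι (e.hom ((coprodMk _ _) (.inr w))) = J.subschemeι w := by
      rw [coprodMk_inr, ← Scheme.Hom.comp_apply, ← Scheme.Hom.comp_apply, he, coprod.inr_desc]
    refine h₂ ?_
    have := congrArg (pullback.fst f T.hom) this
    simp only [Scheme.Hom.comp_apply]
    exact this ▸ (by simpa only [Scheme.Hom.comp_apply] using hJ w)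

theorem mul_ne {T : Over (Spec (CommRingCat.of k))} {I J : (PicF.XT f T).IdealSheafData} {Q₁ Q₂ Y : Set X}
    (hI : Sup f I Q₁) (hJ : Sup f J Q₂) (h₁ : Q₁ ⊆ Yᶜ) (h₂ : Q₂ ⊆ Y) :
    ∀ a b, I.subschemeι a ≠ J.subschemeι b :=
  Union.Sup.ne (Q := Y) (fun z => h₁ (hI z)) fun z => h₂ (hJ z)

theorem cl_eq_sum_split (H : ℕ → Over (Spec (CommRingCat.of k)))
    (Z : ∀ d, HilbD.Obj f d (H d)) (hZ : ∀ d, HilbD.IsUniversal f d (H d) (Z d))
    [∀ d, LocallyOfFiniteType (H d).hom] [∀ d, QuasiCompact (H d).hom] {Y : Set X} (hY : IsClosed Y) (Q : Set X)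
    (HU HY : ℕ → Scheme.{u}) (jU : ∀ d, HU d ⟶ (H d).left) (iY : ∀ d, HY d ⟶ (H d).left)
    [∀ d, IsImmersion (jU d)] [∀ d, QuasiCompact (jU d)] [∀ d, IsImmersion (iY d)] [∀ d, QuasiCompact (iY d)]
    (hjU : ∀ d, Set.range (jU d) = locus f (Z d).1 (Q ∩ Yᶜ))
    (hiY : ∀ d, Set.range (iY d) = locus f (Z d).1 (Q ∩ Y))
    (d : ℕ) {W₀ : Scheme.{u}} (w : W₀ ⟶ (H d).left) [IsImmersion w] [QuasiCompact w]
    (hw : Set.range w = locus f (Z d).1 Q) :
    K0Var.cl (w ≫ (H d).hom) =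
      ∑ p ∈ Finset.HasAntidiagonal.antidiagonal d,
        K0Var.cl (jU p.1 ≫ (H p.1).hom) * K0Var.cl (iY p.2 ≫ (H p.2).hom) := by
  classical
  let ι := ↥(Finset.HasAntidiagonal.antidiagonal d : Finset (ℕ × ℕ))
  let T : ι → Over (Spec (CommRingCat.of k)) := fun p =>
    Over.mk (pullback.fst (jU p.1.1 ≫ (H p.1.1).hom) (iY p.1.2 ≫ (H p.1.2).hom) ≫ jU p.1.1 ≫ (H p.1.1).hom)
  let gU : ∀ p : ι, T p ⟶ H p.1.1 := fun p =>
    Over.homMk (pullback.fst (jU p.1.1 ≫ (H p.1.1).hom) (iY p.1.2 ≫ (H p.1.2).hom) ≫ jU p.1.1) (Category.assoc _ _ _)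
  let gY : ∀ p : ι, T p ⟶ H p.1.2 := fun p =>
    Over.homMk (pullback.snd (jU p.1.1 ≫ (H p.1.1).hom) (iY p.1.2 ≫ (H p.1.2).hom) ≫ iY p.1.2)
      ((Category.assoc _ _ _).trans pullback.condition.symm)
  have hsU₀ : ∀ p, Sup f (HilbD.pull f (gU p) (Z p.1.1).1) (Q ∩ Yᶜ) := fun p =>
    (sup_pull_iff f _ _ _).2 fun t => (hjU p.1.1).subset ⟨_, rfl⟩
  have hsY₀ : ∀ p, Sup f (HilbD.pull f (gY p) (Z p.1.2).1) (Q ∩ Y) := fun p =>
    (sup_pull_iff f _ _ _).2 fun t => (hiY p.1.2).subset ⟨_, rfl⟩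
  have hsU : ∀ p, Sup f (HilbD.pull f (gU p) (Z p.1.1).1) Yᶜ := fun p z => (hsU₀ p z).2
  have hsY : ∀ p, Sup f (HilbD.pull f (gY p) (Z p.1.2).1) Y := fun p z => (hsY₀ p z).2
  let W : ∀ p : ι, HilbD.Obj f d (T p) := fun p =>
    ⟨HilbD.pull f (gU p) (Z p.1.1).1 * HilbD.pull f (gY p) (Z p.1.2).1, by
      have h := isFinLocFreeOfDeg_mul (hsU p) (hsY p) (isFinLocFreeOfDeg_pull f (gU p) _ (Z p.1.1).2)
        (isFinLocFreeOfDeg_pull f (gY p) _ (Z p.1.2).2)
      rwa [show p.1.1 + p.1.2 = d from Finset.HasAntidiagonal.mem_antidiagonal.1 p.2] at h⟩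
  choose Φ hΦ _ using fun p => hZ d (T p) (W p)
  haveI : ∀ p, LocallyOfFiniteType ((Φ p).left ≫ (H d).hom) := fun p => by
    rw [Over.w (Φ p)]
    show LocallyOfFiniteType (pullback.fst _ _ ≫ _)
    infer_instance
  haveI : ∀ p, LocallyOfFiniteType (Φ p).left := fun p => locallyOfFiniteType_of_comp (Φ p).left (H d).hom
  haveI : ∀ p, QuasiCompact (Φ p).left := fun p => by
    haveI : QuasiCompact ((Φ p).left ≫ (H d).hom) := by
      rw [Over.w (Φ p)]
      show QuasiCompact (pullback.fst _ _ ≫ _)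
      infer_instance
    haveI : IsLocallyNoetherian (H d).left := LocallyOfFiniteType.isLocallyNoetherian (H d).hom
    exact QuasiCompact.of_comp (Φ p).left (H d).hom
  have hrange : ∀ p, Set.range (Φ p).left ⊆ Set.range w := fun p => by
    rw [hw]
    rintro _ ⟨t, rfl⟩
    refine (sup_pull_iff f _ (Φ p) Q).1 ?_ t
    rw [hΦ p]
    exact Sup.mul (mul_ne (hsU p) (hsY p) subset_rfl subset_rfl) (hsU₀ p) (hsY₀ p)
      Set.inter_subset_left Set.inter_subset_left
  let P : ι → Scheme.{u} := fun p => pullback (Φ p).left w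
  haveI : ∀ p, IsClosedImmersion (pullback.fst (Φ p).left w) := fun p =>
    IsClosedImmersion.of_isPreimmersion _ (by
      rw [Scheme.Pullback.range_fst, Set.preimage_eq_univ_iff.2 (hrange p)]; exact isClosed_univ)
  haveI : ∀ p, QuasiCompact (pullback.snd (Φ p).left w) := fun p => inferInstance
  have hbij : H27K0Var.PtBij fun p => pullback.snd (Φ p).left w := by
    intro K _ y₀
    let y := y₀ ≫ w
    let TK : Over (Spec (CommRingCat.of k)) := Over.mk (y ≫ (H d).hom)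
    haveI : IsReduced TK.left := inferInstanceAs (IsReduced (Spec _))
    let yO : TK ⟶ H d := Over.homMk y rfl
    obtain ⟨e₁, e₂, Z₁, Z₂, he, hs₁, hs₂, hmul⟩ := exists_split (y ≫ (H d).hom) (pullObj f yO (Z d)) hY
    have hsQ : Sup f (pullObj f yO (Z d)).1 Q := (sup_pull_iff f _ yO Q).2 fun t => by
      rw [← hw]
      exact ⟨y₀ t, rfl⟩
    obtain ⟨hs₁', hs₂'⟩ : Sup f Z₁.1 (Q ∩ Yᶜ) ∧ Sup f Z₂.1 (Q ∩ Y) := by
      obtain ⟨e, he'⟩ := exists_iso (hs₁.ne hs₂)
      rw [← hmul] at hsQ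
      refine ⟨fun z => ⟨?_, hs₁ z⟩, fun z => ⟨?_, hs₂ z⟩⟩
      · have h1 : (coprod.inl ≫ e.hom) ≫ (Z₁.1 * Z₂.1).subschemeι = Z₁.1.subschemeι :=
          (Category.assoc _ _ _).trans ((congrArg (coprod.inl ≫ ·) he').trans (coprod.inl_desc _ _))
        have e2 : ((Z₁.1 * Z₂.1).subschemeι ≫ pullback.fst f TK.hom) ((coprod.inl ≫ e.hom) z) =
            (Z₁.1.subschemeι ≫ pullback.fst f TK.hom) z := congrArg (fun m => pullback.fst f TK.hom (m z)) h1
        exact e2 ▸ hsQ ((coprod.inl ≫ e.hom) z)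
      · have h1 : (coprod.inr ≫ e.hom) ≫ (Z₁.1 * Z₂.1).subschemeι = Z₂.1.subschemeι :=
          (Category.assoc _ _ _).trans ((congrArg (coprod.inr ≫ ·) he').trans (coprod.inr_desc _ _))
        have e2 : ((Z₁.1 * Z₂.1).subschemeι ≫ pullback.fst f TK.hom) ((coprod.inr ≫ e.hom) z) =
            (Z₂.1.subschemeι ≫ pullback.fst f TK.hom) z := congrArg (fun m => pullback.fst f TK.hom (m z)) h1
        exact e2 ▸ hsQ ((coprod.inr ≫ e.hom) z)
    obtain ⟨g₁, hg₁, -⟩ := hZ e₁ TK Z₁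
    obtain ⟨g₂, hg₂, -⟩ := hZ e₂ TK Z₂
    obtain ⟨l₁, hl₁⟩ := H17.exists_lift_immersion_of_range_subset g₁.left (jU e₁) (by
      rintro _ ⟨t, rfl⟩
      rw [hjU]
      exact (sup_pull_iff f _ g₁ (Q ∩ Yᶜ)).1 (hg₁.symm ▸ hs₁') t)
    obtain ⟨l₂, hl₂⟩ := H17.exists_lift_immersion_of_range_subset g₂.left (iY e₂) (by
      rintro _ ⟨t, rfl⟩
      rw [hiY]
      exact (sup_pull_iff f _ g₂ (Q ∩ Y)).1 (hg₂.symm ▸ hs₂') t)
    let p : ι := ⟨(e₁, e₂), Finset.HasAntidiagonal.mem_antidiagonal.2 he⟩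
    have hcomm : l₁ ≫ jU e₁ ≫ (H e₁).hom = l₂ ≫ iY e₂ ≫ (H e₂).hom := by
      rw [reassoc_of% hl₁, reassoc_of% hl₂]
      exact (Over.w g₁).trans (Over.w g₂).symm
    let a : Spec (CommRingCat.of K) ⟶ (T p).left := pullback.lift l₁ l₂ hcomm
    let aO : TK ⟶ T p := Over.homMk a (by
      show pullback.lift l₁ l₂ hcomm ≫ pullback.fst _ _ ≫ jU e₁ ≫ (H e₁).hom = _
      rw [pullback.lift_fst_assoc, reassoc_of% hl₁]
      exact Over.w g₁)
    have ha₁ : aO ≫ gU p = g₁ := Over.OverMorphism.ext ((pullback.lift_fst_assoc _ _ _ _).trans hl₁)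
    have ha₂ : aO ≫ gY p = g₂ := Over.OverMorphism.ext ((pullback.lift_snd_assoc _ _ _ _).trans hl₂)
    have hpull : ∀ {T' : Over (Spec (CommRingCat.of k))} (q : ι) (c : T' ⟶ T q),
        HilbD.pull f (c ≫ Φ q) (Z d).1 =
          HilbD.pull f (c ≫ gU q) (Z q.1.1).1 * HilbD.pull f (c ≫ gY q) (Z q.1.2).1 := fun q c => by
      rw [pull_comp, hΦ q, H27HilbOne.pull_eq_comap, pull_comp, pull_comp, H27HilbOne.pull_eq_comap f c,
        H27HilbOne.pull_eq_comap f c]
      exact H29Blow.comap_mul _ _ _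
    have hay : a ≫ (Φ p).left = y := by
      have : aO ≫ Φ p = yO := (hZ d TK (pullObj f yO (Z d))).unique
        (by show HilbD.pull f _ _ = _; rw [hpull, ha₁, ha₂, hg₁, hg₂]; exact hmul) rfl
      exact congrArg CommaMorphism.left this
    refine ⟨⟨p, pullback.lift a y₀ hay⟩, pullback.lift_snd _ _ _, ?_⟩
    rintro ⟨q, c₀⟩ (hc₀ : c₀ ≫ pullback.snd (Φ q).left w = y₀)
    let c := c₀ ≫ pullback.fst (Φ q).left w
    have hc : c ≫ (Φ q).left = y := by
      simp only [c, y, Category.assoc, pullback.condition, reassoc_of% hc₀]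
    have hcw : c ≫ (T q).hom = y ≫ (H d).hom := by rw [← Over.w (Φ q), ← Category.assoc, hc]
    let cO : TK ⟶ T q := Over.homMk c hcw
    have hcy : cO ≫ Φ q = yO := Over.OverMorphism.ext hc
    have hI := hpull q cO
    rw [hcy] at hI
    have hdec := eq_of_mul_eq (hmul.trans hI)
      (hs₁.disjoint (by rw [pull_comp]; exact (hsY q).pull f cO))
      ((show Sup f (HilbD.pull f (cO ≫ gU q) (Z q.1.1).1) Yᶜ by rw [pull_comp]; exact (hsU q).pull f cO).disjoint hs₂)
    have he₁ : e₁ = q.1.1 := by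
      have h1 := Z₁.2.2 (IsLocalRing.closedPoint K)
      rw [hdec.1, (isFinLocFreeOfDeg_pull f (cO ≫ gU q) _ (Z q.1.1).2).2] at h1
      exact h1.symm
    have he₂ : e₂ = q.1.2 := by
      have h1 := Z₂.2.2 (IsLocalRing.closedPoint K)
      rw [hdec.2, (isFinLocFreeOfDeg_pull f (cO ≫ gY q) _ (Z q.1.2).2).2] at h1
      exact h1.symm
    obtain rfl : q = p := Subtype.ext (Prod.ext he₁.symm he₂.symm)
    have hu₁ : cO ≫ gU p = g₁ := (hZ e₁ TK Z₁).unique hdec.1.symm hg₁
    have hu₂ : cO ≫ gY p = g₂ := (hZ e₂ TK Z₂).unique hdec.2.symm hg₂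
    refine Sigma.ext rfl (heq_of_eq (pullback.hom_ext ((show c = a from pullback.hom_ext ?_ ?_).trans
      (pullback.lift_fst _ _ _).symm) (hc₀.trans (pullback.lift_snd _ _ _).symm)))
    · refine ((cancel_mono (jU e₁)).1 ?_).trans (pullback.lift_fst _ _ _).symm
      exact (Category.assoc _ _ _).trans ((congrArg CommaMorphism.left hu₁).trans hl₁.symm)
    · refine ((cancel_mono (iY e₂)).1 ?_).trans (pullback.lift_snd _ _ _).symm
      exact (Category.assoc _ _ _).trans ((congrArg CommaMorphism.left hu₂).trans hl₂.symm)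
  rw [H27K0Var.cl_eq_sum_of_ptBij (w ≫ (H d).hom) (fun p => pullback.snd (Φ p).left w) hbij,
    ← Finset.sum_coe_sort (Finset.HasAntidiagonal.antidiagonal d : Finset (ℕ × ℕ))]
  refine Finset.sum_congr rfl fun p _ => ?_
  rw [← K0Var.cl_mul]
  refine ((K0Var.cl_congr _ (pullback.fst (Φ p).left w ≫ (Φ p).left ≫ (H d).hom) (Iso.refl _)
    ((Category.id_comp _).trans (pullback.condition_assoc _))).trans
    (H27K0Var.cl_of_surjective ((Φ p).left ≫ (H d).hom) (pullback.fst (Φ p).left w) (Set.range_eq_univ.1 (by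
      rw [Scheme.Pullback.range_fst, Set.preimage_eq_univ_iff.2 (hrange p)])))).trans ?_
  exact K0Var.cl_congr _ _ (Iso.refl _) ((Category.id_comp _).trans (Over.w (Φ p)).symm)

end Groth.Agent.H27HilbOps.Split
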