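import Groth.Agent.H27HilbOps.Split
import Mathlib

/-! # Hilbert series and decompositions of the support -/

set_option autoImplicit false
set_option linter.style.haveILetI false
set_option backward.isDefEq.respectTransparency false
set_option backward.isDefEq.respectTransparency.types false

universe u

open CategoryTheory CategoryTheory.Limits AlgebraicGeometry TopologicalSpace

namespace Groth.Agent.H27HilbOps.Split

open Union

variable {k : Type u} [Field k] {X : Scheme.{u}} {f : X ⟶ Spec (CommRingCat.of k)}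

/-- Being supported in a closed set is a closed condition. -/
theorem isClosed_locus {T : Over (Spec (CommRingCat.of k))} {d : ℕ} (Z : HilbD.Obj f d T) {Q : Set X}
    (hQ : IsClosed Q) : IsClosed (locus f Z.1 Q) := by
  have : locus f Z.1 Q = ((Z.1.subschemeι ≫ PicF.XTproj f T) ''
      ((Z.1.subschemeι ≫ pullback.fst f T.hom) ⁻¹' Qᶜ))ᶜ := by
    ext h
    constructor
    · rintro hh ⟨z, hz, hzh⟩
      exact hz (hh z hzh)
    · exact fun hh z hzh => by_contra fun hz => hh ⟨z, hz, hzh⟩
  rw [this, isClosed_compl_iff]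
  obtain ⟨-, _, _⟩ := Z.2.1
  exact (Z.1.subschemeι ≫ PicF.XTproj f T).isOpenMap _ (hQ.isOpen_compl.preimage (Scheme.Hom.continuous _))

theorem quasiCompact_immersion {T : Over (Spec (CommRingCat.of k))} [LocallyOfFiniteType T.hom] [QuasiCompact T.hom]
    {W : Scheme.{u}} (w : W ⟶ T.left) [IsImmersion w] : QuasiCompact w := by
  haveI : IsLocallyNoetherian T.left := LocallyOfFiniteType.isLocallyNoetherian T.hom
  rw [← w.liftCoborder_ι]
  infer_instance

theorem mk_eq_mul (H : ℕ → Over (Spec (CommRingCat.of k)))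
    (Z : ∀ d, HilbD.Obj f d (H d)) (hZ : ∀ d, HilbD.IsUniversal f d (H d) (Z d))
    [∀ d, LocallyOfFiniteType (H d).hom] [∀ d, QuasiCompact (H d).hom] {Y : Set X} (hY : IsClosed Y) (Q : Set X)
    (A B W : ℕ → Scheme.{u}) (a : ∀ d, A d ⟶ (H d).left) (b : ∀ d, B d ⟶ (H d).left) (w : ∀ d, W d ⟶ (H d).left)
    [∀ d, IsImmersion (a d)] [∀ d, QuasiCompact (a d)] [∀ d, IsImmersion (b d)] [∀ d, QuasiCompact (b d)]
    [∀ d, IsImmersion (w d)] [∀ d, QuasiCompact (w d)]
    (ha : ∀ d, Set.range (a d) = locus f (Z d).1 (Q ∩ Yᶜ)) (hb : ∀ d, Set.range (b d) = locus f (Z d).1 (Q ∩ Y))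
    (hw : ∀ d, Set.range (w d) = locus f (Z d).1 Q) :
    PowerSeries.mk (fun d => K0Var.cl (w d ≫ (H d).hom)) =
      PowerSeries.mk (fun d => K0Var.cl (a d ≫ (H d).hom)) * PowerSeries.mk (fun d => K0Var.cl (b d ≫ (H d).hom)) := by
  ext d
  rw [PowerSeries.coeff_mul, PowerSeries.coeff_mk]
  refine (cl_eq_sum_split H Z hZ hY Q A B a b ha hb d (w d) (hw d)).trans (Finset.sum_congr rfl fun p _ => ?_)
  rw [PowerSeries.coeff_mk, PowerSeries.coeff_mk]

theorem mk_eq_mul_univ (H : ℕ → Over (Spec (CommRingCat.of k)))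
    (Z : ∀ d, HilbD.Obj f d (H d)) (hZ : ∀ d, HilbD.IsUniversal f d (H d) (Z d))
    [∀ d, LocallyOfFiniteType (H d).hom] [∀ d, QuasiCompact (H d).hom] {Y : Set X} (hY : IsClosed Y)
    (A B : ℕ → Scheme.{u}) (a : ∀ d, A d ⟶ (H d).left) (b : ∀ d, B d ⟶ (H d).left)
    [∀ d, IsImmersion (a d)] [∀ d, QuasiCompact (a d)] [∀ d, IsImmersion (b d)] [∀ d, QuasiCompact (b d)]
    (ha : ∀ d, Set.range (a d) = locus f (Z d).1 Yᶜ) (hb : ∀ d, Set.range (b d) = locus f (Z d).1 Y) :
    PowerSeries.mk (fun d => K0Var.cl (H d).hom) =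
      PowerSeries.mk (fun d => K0Var.cl (a d ≫ (H d).hom)) * PowerSeries.mk (fun d => K0Var.cl (b d ≫ (H d).hom)) := by
  rw [← mk_eq_mul H Z hZ hY Set.univ A B (fun d => (H d).left) a b (fun d => 𝟙 _)
    (fun d => by rw [Set.univ_inter]; exact ha d) (fun d => by rw [Set.univ_inter]; exact hb d)
    (fun d => (Set.range_eq_univ.2 fun t => ⟨t, rfl⟩).trans (Set.eq_univ_of_forall fun _ _ _ => trivial).symm)]
  simp only [Category.id_comp]

theorem mk_eq_prod {α : Type*} [DecidableEq α] (H : ℕ → Over (Spec (CommRingCat.of k)))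
    (Z : ∀ d, HilbD.Obj f d (H d)) (hZ : ∀ d, HilbD.IsUniversal f d (H d) (Z d))
    [∀ d, LocallyOfFiniteType (H d).hom] [∀ d, QuasiCompact (H d).hom] (p : α → X) (hp : Function.Injective p)
    (hpc : ∀ i, IsClosed ({p i} : Set X))
    (HP : α → ℕ → Scheme.{u}) (ι : ∀ i d, HP i d ⟶ (H d).left) [∀ i d, IsClosedImmersion (ι i d)]
    (hι : ∀ i d, Set.range (ι i d) = locus f (Z d).1 {p i}) (s : Finset α) (hs : s.Nonempty)
    (W : ℕ → Scheme.{u}) (w : ∀ d, W d ⟶ (H d).left) [∀ d, IsImmersion (w d)] [∀ d, QuasiCompact (w d)]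
    (hw : ∀ d, Set.range (w d) = locus f (Z d).1 (p '' s)) :
    PowerSeries.mk (fun d => K0Var.cl (w d ≫ (H d).hom)) =
      ∏ i ∈ s, PowerSeries.mk (fun d => K0Var.cl (ι i d ≫ (H d).hom)) := by
  induction hs using Finset.Nonempty.cons_induction generalizing W with
  | singleton i =>
    rw [Finset.prod_singleton]
    ext d
    rw [PowerSeries.coeff_mk, PowerSeries.coeff_mk]
    have e : Set.range (w d) = Set.range (ι i d) := by
      rw [hw, hι, Finset.coe_singleton, Set.image_singleton]
    have : IsClosedImmersion (w d) := IsClosedImmersion.of_isPreimmersion _ (e ▸ (ι i d).isClosedEmbedding.isClosed_range)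
    let P := pullback (w d) (ι i d)
    have h1 : Function.Surjective (pullback.fst (w d) (ι i d)) := Set.range_eq_univ.1 (by
      rw [Scheme.Pullback.range_fst, ← e, Set.preimage_range])
    have h2 : Function.Surjective (pullback.snd (w d) (ι i d)) := Set.range_eq_univ.1 (by
      rw [Scheme.Pullback.range_snd, e, Set.preimage_range])
    rw [← H27K0Var.cl_of_surjective (w d ≫ (H d).hom) _ h1, ← H27K0Var.cl_of_surjective (ι i d ≫ (H d).hom) _ h2]
    exact K0Var.cl_congr _ _ (Iso.refl _) ((Category.id_comp _).trans (pullback.condition_assoc _).symm)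
  | cons i s hi hs ih =>
    rw [Finset.prod_cons, mul_comm]
    have hcl : ∀ d, IsClosed (locus f (Z d).1 (p '' (s : Set α))) := fun d =>
      isClosed_locus (Z d) (by
        rw [← Set.biUnion_of_singleton (p '' (s : Set α))]
        refine (s.finite_toSet.image p).isClosed_biUnion ?_
        rintro _ ⟨j, -, rfl⟩
        exact hpc j)
    let I := fun d => Scheme.IdealSheafData.vanishingIdeal (⟨_, hcl d⟩ : Closeds (H d).left)
    haveI := fun d => quasiCompact_immersion (T := H d) (I d).subschemeι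
    have hr : ∀ d, Set.range (I d).subschemeι = locus f (Z d).1 (p '' (s : Set α)) := fun d => by
      rw [Scheme.IdealSheafData.range_subschemeι, Scheme.IdealSheafData.coe_support_vanishingIdeal]
      rfl
    haveI := fun d => quasiCompact_immersion (T := H d) (ι i d)
    rw [← ih (fun d => (I d).subscheme) (fun d => (I d).subschemeι) hr]
    have hne : ∀ j ∈ s, p j ≠ p i := fun j hj h => hi (hp h ▸ hj)
    refine mk_eq_mul H Z hZ (hpc i) _ _ _ W _ _ w (fun d => ?_) (fun d => ?_) hw
    · rw [hr, Finset.coe_cons, Set.image_insert_eq]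
      congr 1
      ext x
      constructor
      · rintro ⟨j, hj, rfl⟩
        exact ⟨Or.inr ⟨j, hj, rfl⟩, hne j hj⟩
      · rintro ⟨h | h, hx⟩
        · exact absurd h hx
        · exact h
    · rw [hι, Finset.coe_cons, Set.image_insert_eq,
        Set.inter_eq_right.2 (Set.singleton_subset_iff.2 (Set.mem_insert _ _))]

theorem mk_eq_mul_prod {α : Type*} [Fintype α] [DecidableEq α] (H : ℕ → Over (Spec (CommRingCat.of k)))
    (Z : ∀ d, HilbD.Obj f d (H d)) (hZ : ∀ d, HilbD.IsUniversal f d (H d) (Z d))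
    [∀ d, LocallyOfFiniteType (H d).hom] [∀ d, QuasiCompact (H d).hom] (p : α → X) (hp : Function.Injective p)
    (hpc : ∀ i, IsClosed ({p i} : Set X))
    (HU : ℕ → Scheme.{u}) (jU : ∀ d, HU d ⟶ (H d).left) [∀ d, IsOpenImmersion (jU d)] [∀ d, QuasiCompact (jU d)]
    (hjU : ∀ d, Set.range (jU d) = locus f (Z d).1 (Set.range p)ᶜ)
    (HP : α → ℕ → Scheme.{u}) (ι : ∀ i d, HP i d ⟶ (H d).left) [∀ i d, IsClosedImmersion (ι i d)]
    (hι : ∀ i d, Set.range (ι i d) = locus f (Z d).1 {p i}) :
    PowerSeries.mk (fun d => K0Var.cl (H d).hom) = PowerSeries.mk (fun d => K0Var.cl (jU d ≫ (H d).hom)) *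
      ∏ i, PowerSeries.mk (fun d => K0Var.cl (ι i d ≫ (H d).hom)) := by
  cases isEmpty_or_nonempty α
  · rw [Finset.univ_eq_empty, Finset.prod_empty, mul_one]
    ext d
    rw [PowerSeries.coeff_mk, PowerSeries.coeff_mk]
    haveI : Surjective (jU d) := ⟨Set.range_eq_univ.1 (by
      rw [hjU, Set.range_eq_empty p, Set.compl_empty]
      exact Set.eq_univ_of_forall fun _ _ _ => trivial)⟩
    haveI : IsIso (jU d) := (isIso_iff_isOpenImmersion_and_epi_base _).2 ⟨inferInstance,
      (TopCat.epi_iff_surjective _).2 (jU d).surjective⟩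
    exact (K0Var.cl_congr _ _ (asIso (jU d)) rfl).symm
  · have hYc : IsClosed (Set.range p) := by
      rw [← Set.biUnion_of_singleton (Set.range p)]
      refine (Set.finite_range p).isClosed_biUnion ?_
      rintro _ ⟨j, rfl⟩
      exact hpc j
    let I := fun d => Scheme.IdealSheafData.vanishingIdeal (⟨_, isClosed_locus (Z d) hYc⟩ : Closeds (H d).left)
    haveI := fun d => quasiCompact_immersion (T := H d) (I d).subschemeι
    have hr : ∀ d, Set.range (I d).subschemeι = locus f (Z d).1 (Set.range p) := fun d => by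
      rw [Scheme.IdealSheafData.range_subschemeι, Scheme.IdealSheafData.coe_support_vanishingIdeal]
      rfl
    rw [← mk_eq_prod H Z hZ p hp hpc HP ι hι Finset.univ Finset.univ_nonempty (fun d => (I d).subscheme)
      (fun d => (I d).subschemeι) (fun d => by rw [hr, Finset.coe_univ, Set.image_univ])]
    exact mk_eq_mul_univ H Z hZ hYc HU _ jU _ hjU hr

end Groth.Agent.H27HilbOps.Split
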